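import Groth.Agent.Lib.WLocal.Retraction
import Groth.Agent.Lib.Olivier.Main
import Groth.Agent.Lib.IndEt.StrictLocal
import Groth.Agent.Lib.IndEt.Retract
import Groth.Agent.S7127
import Groth.Agent.S0675

/-!
# Characterizations of w-contractible rings
-/

set_option autoImplicit false

universe u

open PrimeSpectrum Topology TensorProduct

namespace GrothLib.WLocal

theorem isMaximal_of_identifies {A B : Type u} [CommRing A] [CommRing B] [Algebra A B]
    (h : EtPBC.IdentifiesLocalRings A B) (q : PrimeSpectrum B)
    (hq : (comap (algebraMap A B) q).asIdeal.IsMaximal) : q.asIdeal.IsMaximal := by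
  obtain ⟨n, hn, hle⟩ := Ideal.exists_le_maximal q.asIdeal q.isPrime.ne_top
  haveI := hn.isPrime
  obtain ⟨-, hsur⟩ := local_elts (A := A) n (h ⟨n, hn.isPrime⟩)
  have hm : q.asIdeal.comap (algebraMap A B) = n.comap (algebraMap A B) :=
    (show (q.asIdeal.comap (algebraMap A B)).IsMaximal from hq).eq_of_le
      (Ideal.IsPrime.comap _ (hK := hn.isPrime)).ne_top (Ideal.comap_mono hle)
  suffices n ≤ q.asIdeal by rwa [le_antisymm hle this]
  intro b hb
  obtain ⟨a, s, c, hs, hc, he⟩ := hsur b
  have hab : algebraMap A B s * b - algebraMap A B a ∈ q.asIdeal :=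
    (q.isPrime.mem_or_mem (he ▸ q.asIdeal.zero_mem)).resolve_left fun h => hc (hle h)
  have ha : algebraMap A B a ∈ q.asIdeal := by
    have h1 : a ∈ n.comap (algebraMap A B) := by
      have h2 := n.sub_mem (n.mul_mem_left (algebraMap A B s) hb) (hle hab)
      rw [sub_sub_cancel] at h2
      exact h2
    rw [← hm] at h1
    exact h1
  have h3 := q.asIdeal.add_mem hab ha
  rw [sub_add_cancel] at h3
  exact (q.isPrime.mem_or_mem h3).resolve_left fun h => hs (hle h)

theorem isMaximal_of_weaklyEtale {A B : Type u} [CommRing A] [CommRing B] [Algebra A B]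
    [Algebra.WeaklyEtale A B] (q : PrimeSpectrum B)
    (hq : (comap (algebraMap A B) q).asIdeal.IsMaximal) : q.asIdeal.IsMaximal := by
  let m := (comap (algebraMap A B) q).asIdeal
  haveI : m.IsMaximal := hq
  letI := Ideal.Quotient.field m
  have hreg := Olivier.regular_of_weaklyEtale_field (A ⧸ m) ((A ⧸ m) ⊗[A] B)
  let f : (A ⧸ m) ⊗[A] B →ₐ[A] B ⧸ q.asIdeal := Algebra.TensorProduct.lift
    { Ideal.Quotient.lift m ((Ideal.Quotient.mk q.asIdeal).comp (algebraMap A B))
        (fun y hy => Ideal.Quotient.eq_zero_iff_mem.2 hy) with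
      commutes' := fun y => rfl }
    (Ideal.Quotient.mkₐ A _) fun _ _ => Commute.all _ _
  refine Ideal.Quotient.maximal_of_isField _ ⟨⟨0, 1, zero_ne_one⟩, mul_comm, fun {a} ha => ?_⟩
  obtain ⟨b, rfl⟩ := Ideal.Quotient.mk_surjective a
  obtain ⟨z, hz⟩ := hreg ((1 : A ⧸ m) ⊗ₜ[A] b)
  have hfb : f ((1 : A ⧸ m) ⊗ₜ[A] b) = Ideal.Quotient.mk q.asIdeal b := by
    simp [f]
  have := congrArg f hz
  rw [map_mul, map_mul, hfb, mul_assoc] at this
  exact ⟨f z, mul_left_cancel₀ ha (this.trans (mul_one _).symm)⟩

theorem bijective_local_of_weaklyEtale {A B : Type u} [CommRing A] [CommRing B] [Algebra A B]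
    [Algebra.WeaklyEtale A B] (n : Ideal B) [n.IsPrime]
    (h : EtCoh.IsStrictlyHenselianLocalRing (Localization.AtPrime (n.comap (algebraMap A B)))) :
    Function.Bijective (Localization.localRingHom (n.comap (algebraMap A B)) n (algebraMap A B) rfl) := by
  obtain ⟨_, _⟩ := h
  let f := Localization.localRingHom (n.comap (algebraMap A B)) n (algebraMap A B) rfl
  letI := f.toAlgebra
  haveI : IsScalarTower A (Localization.AtPrime (n.comap (algebraMap A B))) (Localization.AtPrime n) :=
    IsScalarTower.of_algebraMap_eq fun a => by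
      rw [IsScalarTower.algebraMap_apply A B (Localization.AtPrime n)]
      exact (Localization.localRingHom_to_map _ _ _ _ a).symm
  haveI : IsLocalHom (algebraMap (Localization.AtPrime (n.comap (algebraMap A B))) (Localization.AtPrime n)) :=
    Localization.isLocalHom_localRingHom _ _ _ _
  haveI : Algebra.WeaklyEtale A (Localization.AtPrime (n.comap (algebraMap A B))) :=
    IndEt.weaklyEtale (IndEt.isIndEtale_of_isLocalization (n.comap (algebraMap A B)).primeCompl)
  haveI : Algebra.WeaklyEtale B (Localization.AtPrime n) :=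
    IndEt.weaklyEtale (IndEt.isIndEtale_of_isLocalization n.primeCompl)
  haveI : Algebra.WeaklyEtale A (Localization.AtPrime n) := Algebra.WeaklyEtale.trans A B _
  haveI : Algebra.WeaklyEtale (Localization.AtPrime (n.comap (algebraMap A B))) (Localization.AtPrime n) :=
    Groth.Agent.S7127.result A _ _
  exact Olivier.bijective (Localization.AtPrime (n.comap (algebraMap A B))) (Localization.AtPrime n)

theorem isWLocal_of_retraction {A B : Type u} [CommRing A] [CommRing B] [Algebra A B] (r : B →ₐ[A] A)
    (hB : ProEtW.IsWLocal (PrimeSpectrum B)) : ProEtW.IsWLocal (PrimeSpectrum A) := by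
  have hsurj : Function.Surjective r.toRingHom := fun a => ⟨algebraMap A B a, r.commutes a⟩
  have hemb := isClosedEmbedding_comap_of_surjective A r.toRingHom hsurj
  exact homeomorph_isWLocal (hemb.isEmbedding.toHomeomorph) (isWLocal_of_isClosed hB hemb.isClosed_range)

theorem hasIndZariskiRetractions_iff (A : Type u) [CommRing A] :
    ProEtW.HasIndZariskiRetractions A ↔
      (ProEtW.IsWLocal (PrimeSpectrum A) ∧
        ExtremallyDisconnected (ConnectedComponents (PrimeSpectrum A))) := by
  constructor
  · intro h
    obtain ⟨r⟩ := h (WLoc A) (faithfullyFlat_wLoc A) (isIndZariski_wLoc A)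
    have hA := isWLocal_of_retraction r (isWLocal_wLoc A)
    refine ⟨hA, ?_⟩
    obtain ⟨B, _, _, hff, hiz, hB, hE⟩ := exists_indZariski_wLocal_extrDisc A
    obtain ⟨s⟩ := h B hff hiz
    haveI := hA.1
    haveI := hB.1
    haveI := hE
    let i := (continuous_comap s.toRingHom).connectedComponentsMap
    let p := (continuous_comap (algebraMap A B)).connectedComponentsMap
    have hpi : ∀ c, p (i c) = c := fun c => by
      obtain ⟨x, rfl⟩ := ConnectedComponents.surjective_coe c
      show ConnectedComponents.mk (comap (algebraMap A B) (comap s.toRingHom x)) = ConnectedComponents.mk x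
      congr 1
      rw [← comap_comp_apply]
      have : s.toRingHom.comp (algebraMap A B) = RingHom.id A := RingHom.ext s.commutes
      rw [this, comap_id]
    refine CompactT2.Projective.extremallyDisconnected fun {Y Z} _ _ _ _ _ _ {f g} hf hg hgs => ?_
    obtain ⟨k, hk, hkg⟩ := (CompactT2.ExtremallyDisconnected.projective
      (A := ConnectedComponents (PrimeSpectrum B))) (hf.comp (Continuous.connectedComponentsMap_continuous _))
      hg hgs
    refine ⟨k ∘ i, hk.comp (Continuous.connectedComponentsMap_continuous _), funext fun c => ?_⟩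
    exact (congrFun hkg (i c)).trans (congrArg f (hpi c))
  · rintro ⟨hA, hE⟩ B _ _ hff hiz
    have h := IndEt.identifiesLocalRings_of_isIndZariski hiz
    exact exists_retraction hA hE (isMaximal_of_identifies h)
      (fun m _ => PrimeSpectrum.comap_surjective_of_faithfullyFlat (A := A) (B := B) m)
      fun n hn _ => h ⟨n, hn.isPrime⟩

theorem hasEtaleRetractions_of_indEtale {A : Type u} [CommRing A] (h : ProEtW.HasIndEtaleRetractions A) :
    ProEtW.HasEtaleRetractions A := fun B _ _ hff het => h B hff (IndEt.of_exists_etale fun Z _ _ _ g => ⟨B, inferInstance, inferInstance, het, g, AlgHom.id A B, rfl⟩)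

theorem hasIndEtaleRetractions_of_isWContractible {A : Type u} [CommRing A] (h : EtPBC.IsWContractible A) :
    ProEtW.HasIndEtaleRetractions A := fun B _ _ hff hie => h B hff (IndEt.weaklyEtale hie)

theorem isWContractible_of_conditions {A : Type u} [CommRing A] (hA : ProEtW.IsWLocal (PrimeSpectrum A))
    (hE : ExtremallyDisconnected (ConnectedComponents (PrimeSpectrum A)))
    (hsh : ∀ (m : Ideal A) [m.IsMaximal], EtCoh.IsStrictlyHenselianLocalRing (Localization.AtPrime m)) :
    EtPBC.IsWContractible A := fun B _ _ hff hwe =>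
  exists_retraction hA hE isMaximal_of_weaklyEtale
    (fun m _ => PrimeSpectrum.comap_surjective_of_faithfullyFlat (A := A) (B := B) m)
    fun n _ hn => bijective_local_of_weaklyEtale n (@hsh _ hn)

theorem conditions_of_hasIndEtaleRetractions {A : Type u} [CommRing A] (h : ProEtW.HasIndEtaleRetractions A) :
    ProEtW.IsWLocal (PrimeSpectrum A) ∧ ExtremallyDisconnected (ConnectedComponents (PrimeSpectrum A)) ∧
      ∀ (m : Ideal A) [m.IsMaximal], EtCoh.IsStrictlyHenselianLocalRing (Localization.AtPrime m) := by
  obtain ⟨h1, h2⟩ := (hasIndZariskiRetractions_iff A).1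
    fun B _ _ hff hiz => h B hff (IndEt.isIndEtale_of_isIndZariski hiz)
  exact ⟨h1, h2, fun m _ => Groth.Agent.S0675.result A (hasEtaleRetractions_of_indEtale h) m⟩

end GrothLib.WLocal
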