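import Groth.Prelude.Def_ProEtW
import Mathlib.Topology.Connected.Clopen
import Mathlib.Topology.Connected.Separation

/-!
# Connected components of spectral spaces
-/

set_option autoImplicit false

universe u

open Set Topology

namespace GrothLib.WLocal

variable {X : Type u} [TopologicalSpace X] [CompactSpace X] [PrespectralSpace X]
  [QuasiSeparatedSpace X]

theorem connectedComponent_eq_iInter_isClopen (x : X) :
    connectedComponent x = ⋂ s : {s : Set X // IsClopen s ∧ x ∈ s}, (s : Set X) := by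
  refine Subset.antisymm connectedComponent_subset_iInter_isClopen ?_
  refine IsPreconnected.subset_connectedComponent ?_ (mem_iInter.2 fun s => s.2.2)
  set S := ⋂ s : {s : Set X // IsClopen s ∧ x ∈ s}, (s : Set X) with hS
  have hSc : IsClosed S := isClosed_iInter fun s => s.2.1.1
  refine (isPreconnected_iff_subset_of_fully_disjoint_closed hSc).2 fun u v hu hv hsuv huv => ?_
  have hdir : Directed (· ⊇ ·) fun s : {s : Set X // IsClopen s ∧ x ∈ s} => (s : Set X) :=
    fun s t => ⟨⟨s.1 ∩ t.1, s.2.1.inter t.2.1, s.2.2, t.2.2⟩, inter_subset_left, inter_subset_right⟩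
  haveI : Nonempty {s : Set X // IsClopen s ∧ x ∈ s} := ⟨⟨univ, isClopen_univ, mem_univ x⟩⟩
  obtain ⟨U, hUc, hUo, hFU, hUG⟩ := PrespectralSpace.exists_isCompact_and_isOpen_between
    (hSc.inter hu).isCompact (hSc.inter hv).isOpen_compl
    (fun a ha hav => disjoint_left.1 huv ha.2 hav.2)
  obtain ⟨V, hVc, hVo, hGV, hVF⟩ := PrespectralSpace.exists_isCompact_and_isOpen_between
    (hSc.inter hv).isCompact (hSc.inter hu).isOpen_compl
    (fun a ha hau => disjoint_left.1 huv hau.2 ha.2)
  obtain ⟨C₀, hC₀⟩ := (hUc.inter_of_isOpen hVc hUo hVo).elim_directed_family_closed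
    (fun s : {s : Set X // IsClopen s ∧ x ∈ s} => (s : Set X)) (fun s => s.2.1.1) (by
      ext a
      simp only [mem_inter_iff, mem_empty_iff_false, iff_false]
      rintro ⟨⟨haU, haV⟩, haS⟩
      rcases hsuv haS with h | h
      · exact hVF haV ⟨haS, h⟩
      · exact hUG haU ⟨haS, h⟩) hdir
  obtain ⟨C₁, hC₁⟩ := (hUo.union hVo).isClosed_compl.isCompact.elim_directed_family_closed
    (fun s : {s : Set X // IsClopen s ∧ x ∈ s} => (s : Set X)) (fun s => s.2.1.1) (by
      ext a
      simp only [mem_inter_iff, mem_empty_iff_false, iff_false]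
      rintro ⟨ha, haS⟩
      rcases hsuv haS with h | h
      · exact ha (Or.inl (hFU ⟨haS, h⟩))
      · exact ha (Or.inr (hGV ⟨haS, h⟩))) hdir
  obtain ⟨C, hC0, hC1⟩ := hdir C₀ C₁
  have key : ∀ a ∈ C.1, (a ∈ U ∨ a ∈ V) ∧ ¬ (a ∈ U ∧ a ∈ V) := fun a ha => by
    refine ⟨?_, fun h => ?_⟩
    · by_contra hne
      exact (eq_empty_iff_forall_notMem.1 hC₁ a) ⟨hne, hC1 ha⟩
    · exact (eq_empty_iff_forall_notMem.1 hC₀ a) ⟨h, hC0 ha⟩
  have hclopen : ∀ {W W' : Set X}, IsOpen W → IsOpen W' →
      (∀ a ∈ C.1, (a ∈ W ∨ a ∈ W') ∧ ¬ (a ∈ W ∧ a ∈ W')) → IsClopen (C.1 ∩ W) := by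
    intro W W' hW hW' h
    refine ⟨?_, C.2.1.2.inter hW⟩
    have : C.1 ∩ W = C.1 ∩ W'ᶜ := by
      ext a
      exact ⟨fun ⟨ha, haW⟩ => ⟨ha, fun haW' => (h a ha).2 ⟨haW, haW'⟩⟩,
        fun ⟨ha, haW'⟩ => ⟨ha, ((h a ha).1).resolve_right haW'⟩⟩
    rw [this]
    exact C.2.1.1.inter hW'.isClosed_compl
  rcases (key x C.2.2).1 with hx | hx
  · refine Or.inl fun a ha => (hsuv ha).resolve_right fun hav => ?_
    have : a ∈ C.1 ∩ U := mem_iInter.1 ha ⟨_, hclopen hUo hVo key, C.2.2, hx⟩
    exact hUG this.2 ⟨ha, hav⟩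
  · refine Or.inr fun a ha => (hsuv ha).resolve_left fun hau => ?_
    have : a ∈ C.1 ∩ V := mem_iInter.1 ha
      ⟨_, hclopen hVo hUo (fun b hb => ⟨(key b hb).1.symm, fun h => (key b hb).2 h.symm⟩), C.2.2, hx⟩
    exact hVF this.2 ⟨ha, hau⟩

theorem exists_isClopen_of_mk_ne {x y : X}
    (h : (ConnectedComponents.mk x) ≠ ConnectedComponents.mk y) :
    ∃ s : Set X, IsClopen s ∧ x ∈ s ∧ y ∉ s := by
  by_contra hne
  push Not at hne
  refine h (ConnectedComponents.coe_eq_coe'.2 ?_)
  have : y ∈ connectedComponent x := by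
    rw [connectedComponent_eq_iInter_isClopen]
    exact mem_iInter.2 fun s => hne s.1 s.2.1 s.2.2
  rw [← connectedComponent_eq this]
  exact mem_connectedComponent

omit [CompactSpace X] [PrespectralSpace X] [QuasiSeparatedSpace X] in
theorem preimage_image_mk {s : Set X} (hs : IsClopen s) :
    ConnectedComponents.mk ⁻¹' (ConnectedComponents.mk '' s) = s := by
  rw [connectedComponents_preimage_image, hs.biUnion_connectedComponent_eq]

omit [CompactSpace X] [PrespectralSpace X] [QuasiSeparatedSpace X] in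
theorem isClopen_image_mk {s : Set X} (hs : IsClopen s) :
    IsClopen (ConnectedComponents.mk '' s) := by
  have h := preimage_image_mk hs
  refine ⟨?_, ?_⟩
  · rw [← ConnectedComponents.isQuotientMap_coe.isClosed_preimage, h]; exact hs.1
  · rw [← ConnectedComponents.isQuotientMap_coe.isOpen_preimage, h]; exact hs.2

instance totallySeparatedSpace_connectedComponents :
    TotallySeparatedSpace (ConnectedComponents X) := by
  refine totallySeparatedSpace_iff_exists_isClopen.2 fun a b hab => ?_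
  obtain ⟨x, rfl⟩ := ConnectedComponents.surjective_coe a
  obtain ⟨y, rfl⟩ := ConnectedComponents.surjective_coe b
  obtain ⟨s, hs, hx, hy⟩ := exists_isClopen_of_mk_ne hab
  refine ⟨_, isClopen_image_mk hs, mem_image_of_mem _ hx, fun h => hy ?_⟩
  rw [← preimage_image_mk hs]
  exact h

/-- A point outside the preimage of a closed set of components is separated from it by a clopen. -/
theorem exists_isClopen_of_isClosed {T : Set (ConnectedComponents X)} (hT : IsClosed T) {x : X}
    (hx : ConnectedComponents.mk x ∉ T) :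
    ∃ s : Set X, IsClopen s ∧ ConnectedComponents.mk ⁻¹' T ⊆ s ∧ x ∉ s := by
  choose c hc hxc hzc using fun z : (ConnectedComponents.mk ⁻¹' T : Set X) =>
    exists_isClopen_of_mk_ne (x := (z : X)) (y := x) (fun h => hx (h ▸ z.2))
  obtain ⟨t, ht⟩ := (hT.preimage ConnectedComponents.continuous_coe).isCompact.elim_finite_subcover
    c (fun z => (hc z).2) (fun z hz => mem_iUnion.2 ⟨⟨z, hz⟩, hxc _⟩)
  exact ⟨⋃ i ∈ t, c i, t.finite_toSet.isClopen_biUnion fun i _ => hc i, ht, by simp [hzc]⟩

end GrothLib.WLocal
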