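import Groth.Agent.Lib.WLocal.Idempotent
import Groth.Agent.Lib.WLocal.Components
import Groth.Prelude.Def_PBC
import Mathlib.RingTheory.Localization.AtPrime.Basic

/-!
# Maps of w-local rings identifying local rings
-/

set_option autoImplicit false

universe u

open PrimeSpectrum Topology

namespace GrothLib.WLocal

theorem eq_of_mk_eq {B : Type u} [CommRing B] (hB : ProEtW.IsWLocal (PrimeSpectrum B))
    {x y : PrimeSpectrum B} (hx : x ∈ ProEtW.closedPoints (PrimeSpectrum B))
    (hy : y ∈ ProEtW.closedPoints (PrimeSpectrum B))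
    (h : ConnectedComponents.mk x = ConnectedComponents.mk y) : x = y := by
  by_contra hne
  obtain ⟨a, hay, hax⟩ : ∃ a, a ∈ y.asIdeal ∧ a ∉ x.asIdeal := by
    by_contra hh
    push Not at hh
    exact hne (PrimeSpectrum.ext ((mem_closedPoints.1 hy).eq_of_le x.isPrime.ne_top hh).symm)
  obtain ⟨e, he, hiff⟩ := exists_idempotent hB (isClosed_closedPoints_inter_basicOpen hB a)
    (hB.2.1.inter (isClosed_zeroLocus {a}))
    (by
      ext p
      constructor
      · rintro (⟨h1, -⟩ | ⟨h1, -⟩) <;> exact h1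
      · intro hp
        by_cases hap : a ∈ p.asIdeal
        · exact Or.inr ⟨hp, by simpa [mem_zeroLocus] using hap⟩
        · exact Or.inl ⟨hp, hap⟩)
    (Set.disjoint_left.2 fun p h1 h2 => h1.2 (by simpa [mem_zeroLocus] using h2.2))
  have hs : IsClopen (basicOpen e : Set (PrimeSpectrum B)) := PrimeSpectrum.isClopen_iff.2 ⟨e, he, rfl⟩
  have h1 : x ∈ (basicOpen e : Set (PrimeSpectrum B)) := (hiff x hx).2 ⟨hx, hax⟩
  have h2 : y ∈ (basicOpen e : Set (PrimeSpectrum B)) := by
    rw [← preimage_image_mk hs]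
    exact ⟨x, h1, h⟩
  exact ((hiff y hy).1 h2).2 hay

theorem mk_eq_closed {B : Type u} [CommRing B] {p m : PrimeSpectrum B} (h : p ⤳ m) :
    ConnectedComponents.mk m = ConnectedComponents.mk p := mk_eq_of_specializes' h
where
  mk_eq_of_specializes' {X : Type u} [TopologicalSpace X] {x x' : X} (h : x ⤳ x') :
      ConnectedComponents.mk x' = ConnectedComponents.mk x :=
    ConnectedComponents.coe_eq_coe'.2 (h.mem_closed isClosed_connectedComponent mem_connectedComponent)

/-- A map that is bijective on local rings at maximal ideals, and bijective on maximal ideals in the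
strong sense, is bijective. -/
theorem bijective_of_local {A B : Type u} [CommRing A] [CommRing B] [Algebra A B]
    (h1 : ∀ (n : Ideal B) [n.IsMaximal], Function.Bijective
      (Localization.localRingHom (n.comap (algebraMap A B)) n (algebraMap A B) rfl))
    (hsurj : ∀ (m : Ideal A), m.IsMaximal → ∃ n : Ideal B, n.IsMaximal ∧ n.comap (algebraMap A B) = m)
    (hlocal : ∀ (n : Ideal B) (q : Ideal B), n.IsMaximal → q.IsPrime →
      q.comap (algebraMap A B) ≤ n.comap (algebraMap A B) → q ≤ n) :
    Function.Bijective (algebraMap A B) := by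
  refine ⟨(injective_iff_map_eq_zero _).2 fun a ha => ?_, fun b => ?_⟩
  · by_contra hne
    obtain ⟨m, hm, hle⟩ := Ideal.exists_le_maximal ((⊥ : Ideal A).colon {a}) (by
      rw [Ne, Ideal.eq_top_iff_one, Submodule.mem_colon_singleton]
      simpa using hne)
    obtain ⟨n, hn, rfl⟩ := hsurj m hm
    have hx : algebraMap A (Localization.AtPrime (n.comap (algebraMap A B))) a = 0 :=
      (@h1 n hn).1 (by rw [Localization.localRingHom_to_map, ha, map_zero, map_zero])
    obtain ⟨⟨s, hs⟩, hsa⟩ := (IsLocalization.map_eq_zero_iff (n.comap (algebraMap A B)).primeCompl _ _).1 hx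
    exact hs (hle (by simpa [Submodule.mem_colon_singleton] using hsa))
  · let J : Ideal A := ((LinearMap.range (Algebra.linearMap A B)).comap
      (LinearMap.toSpanSingleton A B b))
    have hJ : ∀ s, s ∈ J ↔ algebraMap A B s * b ∈ Set.range (algebraMap A B) := fun s => by
      rw [← Algebra.smul_def]; rfl
    suffices (1 : A) ∈ J by simpa using (hJ 1).1 this
    by_contra hne
    obtain ⟨m, hm, hle⟩ := Ideal.exists_le_maximal J ((Ideal.ne_top_iff_one J).2 hne)
    obtain ⟨n, hn, rfl⟩ := hsurj m hm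
    obtain ⟨x, hx⟩ := (@h1 n hn).2 (algebraMap B (Localization.AtPrime n) b)
    obtain ⟨a, ⟨s, hs⟩, rfl⟩ := IsLocalization.exists_mk'_eq (n.comap (algebraMap A B)).primeCompl x
    rw [Localization.localRingHom_mk', IsLocalization.mk'_eq_iff_eq_mul, ← map_mul,
      IsLocalization.eq_iff_exists n.primeCompl] at hx
    obtain ⟨⟨c, hc⟩, hc'⟩ := hx
    let y := algebraMap A B s * b - algebraMap A B a
    let S : Submonoid B := (n.comap (algebraMap A B)).primeCompl.map (algebraMap A B)
    by_cases hd : Disjoint (((⊥ : Ideal B).colon {y} : Ideal B) : Set B) (S : Set B)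
    · obtain ⟨q, hq, hyq, hqS⟩ := Ideal.exists_le_prime_disjoint _ _ hd
      have hqn : q ≤ n := hlocal n q hn hq fun a' ha' => by_contra fun h =>
        Set.disjoint_left.1 hqS ha' ⟨a', h, rfl⟩
      refine hc (hqn (hyq ?_))
      show c ∈ (⊥ : Ideal B).colon {y}
      rw [Submodule.mem_colon_singleton, smul_eq_mul, Submodule.mem_bot]
      linear_combination -hc'
    · obtain ⟨_, hu, ⟨u', hu', rfl⟩⟩ := Set.not_disjoint_iff.1 hd
      rw [SetLike.mem_coe, Submodule.mem_colon_singleton, smul_eq_mul, Submodule.mem_bot] at hu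
      refine (Ideal.IsPrime.mul_notMem (hn.isPrime.comap (algebraMap A B)) hu' hs) (hle ((hJ _).2 ⟨u' * a, ?_⟩))
      rw [map_mul, map_mul]
      linear_combination -hu


/-- A w-local map of w-local rings identifying local rings and bijective on components is
bijective. -/
theorem bijective_of_identifies {A B : Type u} [CommRing A] [CommRing B] [Algebra A B]
    (h1 : EtPBC.IdentifiesLocalRings A B) (hA : ProEtW.IsWLocal (PrimeSpectrum A))
    (hB : ProEtW.IsWLocal (PrimeSpectrum B))
    (h4 : ProEtW.IsWLocalMap (comap (algebraMap A B)))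
    (h5 : Function.Bijective
      (PrimeSpectrum.continuous_comap (algebraMap A B)).connectedComponentsMap) :
    Function.Bijective (algebraMap A B) := by
  have hmk : ∀ q : PrimeSpectrum B,
      (continuous_comap (algebraMap A B)).connectedComponentsMap (ConnectedComponents.mk q) =
        ConnectedComponents.mk (comap (algebraMap A B) q) := fun q => rfl
  have hsurj : ∀ (m : Ideal A), m.IsMaximal → ∃ n : Ideal B, n.IsMaximal ∧ n.comap (algebraMap A B) = m := by
    intro m hm
    obtain ⟨c, hc⟩ := h5.2 (ConnectedComponents.mk ⟨m, hm.isPrime⟩)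
    obtain ⟨q, rfl⟩ := ConnectedComponents.surjective_coe c
    obtain ⟨n, hn, hle⟩ := Ideal.exists_le_maximal q.asIdeal q.isPrime.ne_top
    refine ⟨n, hn, congrArg PrimeSpectrum.asIdeal (eq_of_mk_eq hA (x := comap (algebraMap A B) ⟨n, hn.isPrime⟩)
      (y := ⟨m, hm.isPrime⟩) (h4.2 _ (mem_closedPoints.2 hn)) (mem_closedPoints.2 hm) ?_)⟩
    rw [← hc, hmk]
    exact mk_eq_closed ((specializes_iff_mem_closure.2 (by
      exact (le_iff_mem_closure q ⟨n, hn.isPrime⟩).1 hle) : q ⤳ ⟨n, hn.isPrime⟩).map (continuous_comap _))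
  have hlocal : ∀ (n : Ideal B) (q : Ideal B), n.IsMaximal → q.IsPrime →
      q.comap (algebraMap A B) ≤ n.comap (algebraMap A B) → q ≤ n := by
    intro n q hn hq hle
    obtain ⟨n', hn', hqn'⟩ := Ideal.exists_le_maximal q hq.ne_top
    obtain ⟨c, -, huniq⟩ := hA.2.2 (comap (algebraMap A B) ⟨q, hq⟩)
    have e1 := huniq (comap (algebraMap A B) ⟨n, hn.isPrime⟩)
      ⟨h4.2 _ (mem_closedPoints.2 hn), (le_iff_specializes _ _).1 hle⟩
    have e2 := huniq (comap (algebraMap A B) ⟨n', hn'.isPrime⟩)
      ⟨h4.2 _ (mem_closedPoints.2 hn'), (le_iff_specializes _ _).1 (Ideal.comap_mono hqn')⟩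
    have hk : ConnectedComponents.mk (⟨n', hn'.isPrime⟩ : PrimeSpectrum B) =
        ConnectedComponents.mk ⟨n, hn.isPrime⟩ := h5.1 (by rw [hmk, hmk, e1, e2])
    have := congrArg PrimeSpectrum.asIdeal
      (eq_of_mk_eq hB (mem_closedPoints.2 hn') (mem_closedPoints.2 hn) hk)
    exact hqn'.trans this.le
  exact bijective_of_local (fun n hn => h1 ⟨n, hn.isPrime⟩) hsurj hlocal

end GrothLib.WLocal
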