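import Groth.Agent.Lib.WLocal.Localization
import Groth.Agent.Lib.WLocal.Bijective
import Groth.Agent.Lib.IndEt.Identifies

/-!
# w-localization along a zero-dimensional closed subset
-/

set_option autoImplicit false

universe u

open PrimeSpectrum Topology

namespace GrothLib.WLocal

theorem homeomorph_isWLocal {X Y : Type u} [TopologicalSpace X] [TopologicalSpace Y] [SpectralSpace X]
    (h : X ≃ₜ Y) (hY : ProEtW.IsWLocal Y) : ProEtW.IsWLocal X := by
  have hcl : ∀ x : X, IsClosed ({x} : Set X) ↔ IsClosed ({h x} : Set Y) := fun x => by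
    rw [← h.isClosed_image, Set.image_singleton]
  obtain ⟨-, hc, hu⟩ := hY
  refine ⟨inferInstance, ?_, fun x => ?_⟩
  · rw [show {x : X | IsClosed ({x} : Set X)} = h ⁻¹' {y | IsClosed ({y} : Set Y)} from Set.ext hcl]
    exact hc.preimage h.continuous
  · obtain ⟨c, ⟨hcc, hxc⟩, huniq⟩ := hu (h x)
    refine ⟨h.symm c, ⟨(hcl _).2 (by simpa using hcc), by simpa using hxc.map h.symm.continuous⟩,
      fun d ⟨hd, hxd⟩ => ?_⟩
    rw [← huniq (h d) ⟨(hcl d).1 hd, hxd.map h.continuous⟩, Homeomorph.symm_apply_apply]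

theorem quotient_isMaximal {A : Type u} [CommRing A] {I : Ideal A}
    (hmax : ∀ p : PrimeSpectrum A, I ≤ p.asIdeal → p.asIdeal.IsMaximal) (p : PrimeSpectrum (A ⧸ I)) :
    p.asIdeal.IsMaximal := by
  have hI : I ≤ (comap (Ideal.Quotient.mk I) p).asIdeal := fun a ha => by
    show Ideal.Quotient.mk I a ∈ p.asIdeal
    rw [(Ideal.Quotient.eq_zero_iff_mem).2 ha]
    exact p.asIdeal.zero_mem
  have hm := hmax _ hI
  have := (Ideal.map_eq_top_or_isMaximal_of_surjective (Ideal.Quotient.mk I) Ideal.Quotient.mk_surjective hm).resolve_left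
  rw [comap_asIdeal, Ideal.map_comap_of_surjective _ Ideal.Quotient.mk_surjective] at this
  exact this p.isPrime.ne_top

theorem isWLocal_of_forall_isMaximal {A : Type u} [CommRing A]
    (h : ∀ p : PrimeSpectrum A, p.asIdeal.IsMaximal) : ProEtW.IsWLocal (PrimeSpectrum A) := by
  have hcl : ∀ p : PrimeSpectrum A, IsClosed ({p} : Set (PrimeSpectrum A)) := fun p =>
    (isClosed_singleton_iff_isMaximal p).2 (h p)
  refine ⟨inferInstance, ?_, fun p => ⟨p, ⟨hcl p, specializes_rfl⟩, fun q ⟨_, hq⟩ => hq.mem_closed (hcl p) rfl⟩⟩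
  rw [show {p : PrimeSpectrum A | IsClosed ({p} : Set (PrimeSpectrum A))} = Set.univ from
    Set.eq_univ_of_forall hcl]
  exact isClosed_univ

/-- Quotient maps of an identification of local rings identify local rings. -/
theorem identifiesLocalRings_quotientMap {A B : Type u} [CommRing A] [CommRing B] [Algebra A B]
    (h : EtPBC.IdentifiesLocalRings A B) (I : Ideal A) :
    letI := (Ideal.quotientMap (I.map (algebraMap A B)) (algebraMap A B) Ideal.le_comap_map).toAlgebra
    EtPBC.IdentifiesLocalRings (A ⧸ I) (B ⧸ I.map (algebraMap A B)) := by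
  letI := (Ideal.quotientMap (I.map (algebraMap A B)) (algebraMap A B) Ideal.le_comap_map).toAlgebra
  intro q
  let Q := q.asIdeal.comap (Ideal.Quotient.mk (I.map (algebraMap A B)))
  haveI : Q.IsPrime := Ideal.IsPrime.comap _
  let P := Q.comap (algebraMap A B)
  have hP : ∀ s : A, s ∉ P ↔ Ideal.Quotient.mk I s ∉ q.asIdeal.comap (algebraMap (A ⧸ I) (B ⧸ I.map (algebraMap A B))) :=
    fun s => Iff.rfl
  have hbij := h ⟨Q, inferInstance⟩
  have hinj : ∀ (a : A) (c : B), c ∉ Q → c * algebraMap A B a = 0 → ∃ s, s ∉ P ∧ s * a = 0 := by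
    intro a c hc hca
    have hx : algebraMap A (Localization.AtPrime P) a = 0 := hbij.1 (by
      rw [Localization.localRingHom_to_map, map_zero]
      exact (IsLocalization.map_eq_zero_iff Q.primeCompl _ _).2 ⟨⟨c, hc⟩, hca⟩)
    obtain ⟨⟨s, hs⟩, hsa⟩ := (IsLocalization.map_eq_zero_iff P.primeCompl _ _).1 hx
    exact ⟨s, hs, hsa⟩
  have hsurj : ∀ b : B, ∃ (a s : A) (c : B), s ∉ P ∧ c ∉ Q ∧
      c * (algebraMap A B s * b - algebraMap A B a) = 0 := by
    intro b
    obtain ⟨x, hx⟩ := hbij.2 (algebraMap B (Localization.AtPrime Q) b)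
    obtain ⟨a, ⟨s, hs⟩, rfl⟩ := IsLocalization.exists_mk'_eq P.primeCompl x
    rw [Localization.localRingHom_mk', IsLocalization.mk'_eq_iff_eq_mul, ← map_mul,
      IsLocalization.eq_iff_exists Q.primeCompl] at hx
    obtain ⟨⟨c, hc⟩, hc'⟩ := hx
    exact ⟨a, s, c, hs, hc, by linear_combination -hc'⟩
  have hideal : ∀ y ∈ I.map (algebraMap A B), ∃ s, s ∉ P ∧ ∃ c, c ∉ Q ∧ ∃ j ∈ I,
      c * (algebraMap A B s * y - algebraMap A B j) = 0 := by
    intro y hy
    induction hy using Submodule.span_induction with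
    | mem y hy =>
      obtain ⟨j, hj, rfl⟩ := hy
      exact ⟨1, (Ideal.ne_top_iff_one P).1 (Ideal.IsPrime.comap _).ne_top, 1,
        (Ideal.ne_top_iff_one Q).1 ‹Q.IsPrime›.ne_top, j, hj, by simp⟩
    | zero =>
      exact ⟨1, (Ideal.ne_top_iff_one P).1 (Ideal.IsPrime.comap _).ne_top, 1,
        (Ideal.ne_top_iff_one Q).1 ‹Q.IsPrime›.ne_top, 0, I.zero_mem, by simp⟩
    | add y z _ _ hy hz =>
      obtain ⟨s, hs, c, hc, j, hj, he⟩ := hy
      obtain ⟨t, ht, d, hd, k, hk, hf⟩ := hz
      refine ⟨s * t, (Ideal.IsPrime.comap (algebraMap A B) (hK := ‹Q.IsPrime›)).mul_notMem hs ht,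
        c * d, ‹Q.IsPrime›.mul_notMem hc hd, t * j + s * k,
        I.add_mem (I.mul_mem_left _ hj) (I.mul_mem_left _ hk), ?_⟩
      simp only [map_mul, map_add]
      linear_combination (d * algebraMap A B t) * he + (c * algebraMap A B s) * hf
    | smul b y _ hy =>
      obtain ⟨s, hs, c, hc, j, hj, he⟩ := hy
      obtain ⟨a, t, d, ht, hd, hf⟩ := hsurj b
      refine ⟨t * s, (Ideal.IsPrime.comap (algebraMap A B) (hK := ‹Q.IsPrime›)).mul_notMem ht hs,
        d * c, ‹Q.IsPrime›.mul_notMem hd hc, a * j, I.mul_mem_left _ hj, ?_⟩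
      simp only [map_mul, smul_eq_mul]
      linear_combination (d * algebraMap A B t * b) * he + (c * algebraMap A B j) * hf
  refine IndEt.bijective_localRingHom q.asIdeal (fun a c hc hca => ?_) fun b => ?_
  · obtain ⟨a, rfl⟩ := Ideal.Quotient.mk_surjective a
    obtain ⟨c, rfl⟩ := Ideal.Quotient.mk_surjective c
    have hmem : c * algebraMap A B a ∈ I.map (algebraMap A B) := (Ideal.Quotient.eq_zero_iff_mem).1 hca
    obtain ⟨t, ht, d, hd, j, hj, he⟩ := hideal _ hmem
    obtain ⟨a', s, e, hs, he', hf⟩ := hsurj c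
    obtain ⟨r, hr, hra⟩ := hinj (t * a' * a - s * j) (d * e)
      (‹Q.IsPrime›.mul_notMem hd he') (by
        simp only [map_mul, map_sub]
        linear_combination (e * algebraMap A B s) * he - (d * algebraMap A B t * algebraMap A B a) * hf)
    have ha' : a' ∉ P := fun ha => by
      have h1 : e * (algebraMap A B s * c - algebraMap A B a') ∈ Q := hf ▸ Q.zero_mem
      have h2 : algebraMap A B s * c ∈ Q := by
        simpa using Q.add_mem ((‹Q.IsPrime›.mem_or_mem h1).resolve_left he')
          (show algebraMap A B a' ∈ Q from ha)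
      exact (‹Q.IsPrime›.mem_or_mem h2).elim hs hc
    refine ⟨Ideal.Quotient.mk I (r * t * a'),
      (hP _).1 ((Ideal.IsPrime.comap (algebraMap A B) (hK := ‹Q.IsPrime›)).mul_notMem
        ((Ideal.IsPrime.comap (algebraMap A B) (hK := ‹Q.IsPrime›)).mul_notMem hr ht) ha'), ?_⟩
    rw [← map_mul, Ideal.Quotient.eq_zero_iff_mem,
      show r * t * a' * a = r * s * j by linear_combination hra]
    exact I.mul_mem_left _ hj
  · obtain ⟨b, rfl⟩ := Ideal.Quotient.mk_surjective b
    obtain ⟨a, s, c, hs, hc, hf⟩ := hsurj b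
    refine ⟨Ideal.Quotient.mk I a, Ideal.Quotient.mk I s, Ideal.Quotient.mk _ c, (hP s).1 hs, hc, ?_⟩
    have := congrArg (Ideal.Quotient.mk (I.map (algebraMap A B))) hf
    rw [map_mul, map_sub, map_mul, map_zero] at this
    exact this

/-- Bijectivity of the quotient map criterion. -/
theorem bijective_quotientMap {A B : Type u} [CommRing A] [CommRing B] [Algebra A B]
    (h : EtPBC.IdentifiesLocalRings A B) (I : Ideal A)
    (hA : ∀ p : PrimeSpectrum A, I ≤ p.asIdeal → p.asIdeal.IsMaximal)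
    (hB : ∀ p : PrimeSpectrum B, I.map (algebraMap A B) ≤ p.asIdeal → p.asIdeal.IsMaximal)
    (hbij : Set.BijOn (comap (algebraMap A B)) (zeroLocus ((I.map (algebraMap A B) : Ideal B) : Set B))
      (zeroLocus (I : Set A))) :
    Function.Bijective (Ideal.quotientMap (I.map (algebraMap A B)) (algebraMap A B) Ideal.le_comap_map) := by
  letI := (Ideal.quotientMap (I.map (algebraMap A B)) (algebraMap A B) Ideal.le_comap_map).toAlgebra
  let f := Ideal.Quotient.mk (I.map (algebraMap A B))
  let f₀ := Ideal.Quotient.mk I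
  have hA' := quotient_isMaximal hA
  have hB' := quotient_isMaximal hB
  have hinjA : Function.Injective (comap f₀) :=
    (isClosedEmbedding_comap_of_surjective _ f₀ Ideal.Quotient.mk_surjective).injective
  have hinjB : Function.Injective (comap f) :=
    (isClosedEmbedding_comap_of_surjective _ f Ideal.Quotient.mk_surjective).injective
  have hrA : Set.range (comap f₀) = zeroLocus (I : Set A) := by
    rw [range_comap_of_surjective _ _ Ideal.Quotient.mk_surjective, Ideal.mk_ker]
  have hrB : Set.range (comap f) = zeroLocus ((I.map (algebraMap A B) : Ideal B) : Set B) := by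
    rw [range_comap_of_surjective _ _ Ideal.Quotient.mk_surjective, Ideal.mk_ker]
  have hsq : ∀ q, comap f₀ (comap (algebraMap (A ⧸ I) (B ⧸ I.map (algebraMap A B))) q) =
      comap (algebraMap A B) (comap f q) := fun q => rfl
  have hc : Function.Bijective (comap (algebraMap (A ⧸ I) (B ⧸ I.map (algebraMap A B)))) := by
    refine ⟨fun q q' hqq => hinjB (hbij.injOn (hrB ▸ Set.mem_range_self q) (hrB ▸ Set.mem_range_self q') ?_),
      fun p => ?_⟩
    · rw [← hsq, ← hsq, hqq]
    · obtain ⟨y, hy, hyp⟩ := hbij.surjOn (hrA ▸ Set.mem_range_self p : comap f₀ p ∈ _)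
      obtain ⟨q, rfl⟩ : y ∈ Set.range (comap f) := hrB ▸ hy
      exact ⟨q, hinjA (by rw [hsq, hyp])⟩
  haveI := totallySeparatedSpace hA'
  haveI := totallySeparatedSpace hB'
  refine bijective_of_identifies (identifiesLocalRings_quotientMap h I) (isWLocal_of_forall_isMaximal hA')
    (isWLocal_of_forall_isMaximal hB')
    ⟨⟨continuous_comap _, fun s hs hsc => ?_⟩, fun q _ => (isClosed_singleton_iff_isMaximal _).2 (hA' _)⟩ ?_
  · exact ((hsc.isClosed).preimage (continuous_comap _)).isCompact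
  · have hm : ∀ {X : Type u} [TopologicalSpace X] [TotallyDisconnectedSpace X],
        Function.Injective (ConnectedComponents.mk : X → ConnectedComponents X) := by
      intro X _ _ x y hxy
      simpa using ConnectedComponents.coe_eq_coe'.1 hxy
    constructor
    · intro a b hab
      obtain ⟨a, rfl⟩ := ConnectedComponents.surjective_coe a
      obtain ⟨b, rfl⟩ := ConnectedComponents.surjective_coe b
      exact congrArg ConnectedComponents.mk (hc.1 (hm hab))
    · intro a
      obtain ⟨a, rfl⟩ := ConnectedComponents.surjective_coe a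
      obtain ⟨b, rfl⟩ := hc.2 a
      exact ⟨ConnectedComponents.mk b, rfl⟩

/-- w-localization along a closed subset consisting of maximal ideals. -/
theorem exists_along (A : Type u) [CommRing A] (I : Ideal A)
    (hI : ∀ p : PrimeSpectrum A, I ≤ p.asIdeal → p.asIdeal.IsMaximal) :
    ∃ (B : Type u) (_ : CommRing B) (_ : Algebra A B),
      EtPBC.IsIndZariski A B ∧ ProEtW.IsWLocal (PrimeSpectrum B) ∧
      ProEtW.closedPoints (PrimeSpectrum B) = zeroLocus (I.map (algebraMap A B)) ∧
      Function.Bijective (Ideal.quotientMap (I.map (algebraMap A B)) (algebraMap A B)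
        Ideal.le_comap_map) := by
  let A' := WLoc A
  have hA' := isWLocal_wLoc A
  let Z : Set (PrimeSpectrum A') :=
    ProEtW.closedPoints (PrimeSpectrum A') ∩ zeroLocus ((I.map (algebraMap A A') : Ideal A') : Set A')
  have hclosed : ∀ q : PrimeSpectrum A', (comap (algebraMap A A') q).asIdeal.IsMaximal →
      q ∈ ProEtW.closedPoints (PrimeSpectrum A') := fun q hq => by
    refine (isClosed_singleton_wLoc_iff A).2 ?_
    have hsp := coord_specializes A q
    rw [coord_fst] at hsp ⊢
    exact (hsp.mem_closed ((isClosed_singleton_iff_isMaximal _).2 hq) rfl).symm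
  have hcomap : ∀ q : PrimeSpectrum A', I.map (algebraMap A A') ≤ q.asIdeal ↔
      I ≤ (comap (algebraMap A A') q).asIdeal := fun q => Ideal.map_le_iff_le_comap
  let Y : Set (PrimeSpectrum A') := {q | ∃ z ∈ Z, q ⤳ z}
  have hsep : ∀ q ∉ Y, ∃ e : A', IsIdempotentElem e ∧ (∀ y ∈ Y, e ∉ y.asIdeal) ∧ e ∈ q.asIdeal := by
    intro q hq
    obtain ⟨c, ⟨hc, hqc⟩, -⟩ := hA'.2.2 q
    obtain ⟨a, haI, hac⟩ : ∃ a ∈ I.map (algebraMap A A'), a ∉ c.asIdeal :=
      Set.not_subset.1 fun hle => hq ⟨c, ⟨hc, hle⟩, hqc⟩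
    obtain ⟨e, he, hiff⟩ := exists_idempotent hA' (isClosed_closedPoints_inter_basicOpen hA' a)
      (hA'.2.1.inter (isClosed_zeroLocus {a}))
      (by
        ext p
        constructor
        · rintro (⟨h1, -⟩ | ⟨h1, -⟩) <;> exact h1
        · intro hp
          by_cases hap : a ∈ p.asIdeal
          · exact Or.inr ⟨hp, by simpa [mem_zeroLocus] using hap⟩
          · exact Or.inl ⟨hp, hap⟩)
      (Set.disjoint_left.2 fun p h1 h2 => h1.2 (by simpa [mem_zeroLocus] using h2.2))
    have hmul : ∀ p : PrimeSpectrum A', e * (1 - e) ∈ p.asIdeal := fun p => by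
      rw [mul_sub, mul_one, he.eq, sub_self]; exact p.asIdeal.zero_mem
    refine ⟨1 - e, he.one_sub, ?_, ?_⟩
    · rintro y ⟨z, ⟨hz, hzI⟩, hyz⟩ hmem
      have hez : e ∈ z.asIdeal := not_not.1 fun h => ((hiff z hz).1 h).2 (hzI haI)
      exact z.isPrime.ne_top ((Ideal.eq_top_iff_one _).2
        (by simpa using z.asIdeal.add_mem hez ((le_iff_specializes _ _).2 hyz hmem)))
    · exact (q.isPrime.mem_or_mem (hmul q)).resolve_left fun h =>
        (hiff c hc).2 ⟨hc, hac⟩ ((le_iff_specializes _ _).2 hqc h)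
  let B := Localization (IndEt.idemSubmonoid Y)
  have hiz : EtPBC.IsIndZariski A B :=
    IndEt.isIndZariski_trans (isIndZariski_wLoc A) (IndEt.isIndLoc_of_isLocalization (IndEt.idemSubmonoid Y))
  have hemb : IsClosedEmbedding (comap (algebraMap A' B)) :=
    isClosedEmbedding_comap_of_surjective _ _
      (IndEt.algebraMap_surjective_of_isIdempotentElem (IndEt.idemSubmonoid Y) fun _ hs => hs.1)
  have hr : Set.range (comap (algebraMap A' B)) = Y := IndEt.range_comap_idemSubmonoid hsep
  have hY : IsClosed Y := hr ▸ hemb.isClosed_range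
  let h₁ : PrimeSpectrum B ≃ₜ Y := hemb.isEmbedding.toHomeomorph.trans (Homeomorph.setCongr hr)
  have hwl : ProEtW.IsWLocal (PrimeSpectrum B) := homeomorph_isWLocal h₁ (isWLocal_of_isClosed hA' hY)
  have hcp : ∀ q : PrimeSpectrum B, q ∈ ProEtW.closedPoints (PrimeSpectrum B) ↔
      comap (algebraMap A' B) q ∈ ProEtW.closedPoints (PrimeSpectrum A') := fun q => by
    show IsClosed _ ↔ IsClosed _
    rw [hemb.isClosed_iff_image_isClosed, Set.image_singleton]
  have hfac : ∀ q : PrimeSpectrum B,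
      comap (algebraMap A B) q = comap (algebraMap A A') (comap (algebraMap A' B) q) := fun q => by
    rw [IsScalarTower.algebraMap_eq A A' B, comap_comp_apply]
  have hV : ∀ q : PrimeSpectrum B, I.map (algebraMap A B) ≤ q.asIdeal ↔
      I ≤ (comap (algebraMap A B) q).asIdeal := fun q => Ideal.map_le_iff_le_comap
  have hVZ : ∀ q : PrimeSpectrum B, q ∈ ProEtW.closedPoints (PrimeSpectrum B) ↔
      I.map (algebraMap A B) ≤ q.asIdeal := fun q => by
    rw [hcp, hV, hfac]
    constructor
    · intro hq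
      obtain ⟨z, hz, hqz⟩ : comap (algebraMap A' B) q ∈ Y := (Set.ext_iff.1 hr _).1 ⟨q, rfl⟩
      have : z = comap (algebraMap A' B) q := hqz.mem_closed hq rfl
      exact (hcomap _).1 (this ▸ hz.2)
    · exact fun hq => hclosed _ (hI _ hq)
  refine ⟨B, inferInstance, inferInstance, hiz, hwl, Set.ext hVZ,
    bijective_quotientMap (IndEt.identifiesLocalRings_of_isIndZariski hiz) I hI
      (fun p hp => mem_closedPoints.1 ((hVZ p).2 hp)) ⟨fun q hq => (hV q).1 hq, fun q hq q' hq' hqq => ?_,
        fun p hp => ?_⟩⟩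
  · rw [hfac, hfac] at hqq
    exact hemb.injective ((bijOn_closedPoints A).injOn ((hcp q).1 ((hVZ q).2 hq))
      ((hcp q').1 ((hVZ q').2 hq')) hqq)
  · obtain ⟨z, hz, rfl⟩ := (bijOn_closedPoints A).surjOn (Set.mem_univ p)
    obtain ⟨q, hq⟩ : z ∈ Set.range (comap (algebraMap A' B)) := by
      rw [hr]; exact ⟨z, ⟨hz, (hcomap z).2 hp⟩, specializes_rfl⟩
    exact ⟨q, (hVZ q).1 ((hcp q).2 (hq ▸ hz)), by rw [hfac, hq]⟩

end GrothLib.WLocal
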