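import Groth.Agent.Lib.WLocal.LCMap
import Groth.Agent.Lib.WLocal.Bijective
import Groth.Agent.Lib.IndEt.Identifies
import Mathlib.Topology.Spectral.Hom

/-!
# The pullback ring: w-locality and universal map
-/

set_option autoImplicit false

universe u

open PrimeSpectrum Topology

namespace GrothLib.WLocal

theorem isSpectralMap_comap {R S : Type u} [CommRing R] [CommRing S] (f : R →+* S) :
    IsSpectralMap (comap f) := by
  refine ⟨continuous_comap _, fun s ho hc => ?_⟩
  have hex : ∀ x : s, ∃ a : R, (x : PrimeSpectrum R) ∈ (basicOpen a : Set _) ∧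
      (basicOpen a : Set (PrimeSpectrum R)) ⊆ s := fun x => by
    obtain ⟨_, ⟨a, rfl⟩, hx, hsub⟩ := isTopologicalBasis_basic_opens.exists_subset_of_mem_open x.2 ho
    exact ⟨a, hx, hsub⟩
  choose a ha has using hex
  obtain ⟨F, hF⟩ := hc.elim_finite_subcover (fun x : s => (basicOpen (a x) : Set (PrimeSpectrum R)))
    (fun x => (basicOpen _).2) (fun x hx => Set.mem_iUnion.2 ⟨⟨x, hx⟩, ha ⟨x, hx⟩⟩)
  rw [Set.Subset.antisymm hF (Set.iUnion₂_subset fun x _ => has x), Set.preimage_iUnion₂]
  exact F.isCompact_biUnion fun x _ => isCompact_basicOpen _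

/-- A homeomorphism on connected components. -/
noncomputable def componentsCongr {X Y : Type u} [TopologicalSpace X] [TopologicalSpace Y] (h : X ≃ₜ Y) :
    ConnectedComponents X ≃ₜ ConnectedComponents Y where
  toFun := h.continuous.connectedComponentsMap
  invFun := h.symm.continuous.connectedComponentsMap
  left_inv x := by
    obtain ⟨y, rfl⟩ := ConnectedComponents.surjective_coe x
    exact congrArg ConnectedComponents.mk (h.symm_apply_apply y)
  right_inv x := by
    obtain ⟨y, rfl⟩ := ConnectedComponents.surjective_coe x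
    exact congrArg ConnectedComponents.mk (h.apply_symm_apply y)
  continuous_toFun := Continuous.connectedComponentsMap_continuous _
  continuous_invFun := Continuous.connectedComponentsMap_continuous _

variable {A : Type u} [CommRing A] {T : Type u} [TopologicalSpace T] [CompactSpace T] [T2Space T]
  [TotallyDisconnectedSpace T] (g : C(T, ConnectedComponents (PrimeSpectrum A)))

theorem mem_closedPoints_pullRing (hA : ProEtW.IsWLocal (PrimeSpectrum A)) (y : PrimeSpectrum (PullRing g)) :
    y ∈ ProEtW.closedPoints (PrimeSpectrum (PullRing g)) ↔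
      comap (algebraMap A (PullRing g)) y ∈ ProEtW.closedPoints (PrimeSpectrum A) := by
  rw [← pullHomeo_fst g y]
  refine Iff.trans ?_ (isClosed_singleton_iff g)
  show IsClosed ({y} : Set _) ↔ IsClosed ({pullHomeo g y} : Set _)
  rw [← (pullHomeo g).isClosed_image, Set.image_singleton]

theorem isWLocalMap_pullRing (hA : ProEtW.IsWLocal (PrimeSpectrum A)) :
    ProEtW.IsWLocalMap (comap (algebraMap A (PullRing g))) :=
  ⟨isSpectralMap_comap _, fun y hy => (mem_closedPoints_pullRing g hA y).1 hy⟩

theorem isWLocal_pullRing (hA : ProEtW.IsWLocal (PrimeSpectrum A)) :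
    ProEtW.IsWLocal (PrimeSpectrum (PullRing g)) := by
  obtain ⟨⟨-, -, hu⟩, -, -⟩ := isWLocal_pullback g hA
  refine ⟨inferInstance, ?_, fun y => ?_⟩
  · rw [show {y : PrimeSpectrum (PullRing g) | IsClosed ({y} : Set (PrimeSpectrum (PullRing g)))} =
      comap (algebraMap A (PullRing g)) ⁻¹' ProEtW.closedPoints (PrimeSpectrum A) from
        Set.ext (mem_closedPoints_pullRing g hA)]
    exact hA.2.1.preimage (continuous_comap _)
  · obtain ⟨c, ⟨hc, hyc⟩, huniq⟩ := hu (pullHomeo g y)
    have hcl : ∀ z : Pullback g, IsClosed ({(pullHomeo g).symm z} : Set _) ↔ IsClosed ({z} : Set _) :=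
      fun z => by rw [← (pullHomeo g).symm.isClosed_image (s := {z}), Set.image_singleton]
    refine ⟨(pullHomeo g).symm c, ⟨(hcl c).2 hc, ?_⟩, fun d ⟨hd, hyd⟩ => ?_⟩
    · simpa using hyc.map (pullHomeo g).symm.continuous
    · rw [← huniq (pullHomeo g d) ⟨(hcl _).1 (by simpa using hd), hyd.map (pullHomeo g).continuous⟩,
        Homeomorph.symm_apply_apply]

theorem exists_components_pullRing :
    ∃ e : ConnectedComponents (PrimeSpectrum (PullRing g)) ≃ₜ T,
      ∀ y, e (ConnectedComponents.mk y) = (pullHomeo g y).1.2 := by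
  obtain ⟨e, he⟩ := exists_homeomorph g
  exact ⟨(componentsCongr (pullHomeo g)).trans e, fun y => he (pullHomeo g y)⟩

variable {B : Type u} [CommRing B] [Algebra A B] (hB : ProEtW.IsWLocal (PrimeSpectrum B))
  (ν : C(ProEtW.closedPoints (PrimeSpectrum B), T))

theorem comap_toBAlg {x : PrimeSpectrum B} (hx : x ∈ ProEtW.closedPoints (PrimeSpectrum B)) :
    comap (toBAlg (A := A) hB ν).toRingHom x = pt A T (comap (algebraMap A B) x, ν ⟨x, hx⟩) := by
  obtain ⟨⟨p, t⟩, hpt⟩ := (pt_bijective A T).2 (comap (toBAlg (A := A) hB ν).toRingHom x)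
  have hm := mem_closedPoints.1 hx
  rw [← hpt]
  have hp : p = comap (algebraMap A B) x := by
    ext a
    have := SetLike.ext_iff.1 (congrArg PrimeSpectrum.asIdeal hpt) (algebraMap A (LC A T) a)
    rw [mem_pt] at this
    refine this.trans ?_
    show toBAlg hB ν (algebraMap A (LC A T) a) ∈ x.asIdeal ↔ _
    rw [AlgHom.commutes]
    rfl
  subst hp
  congr 2
  by_contra hne
  obtain ⟨U, hU, h1, h2⟩ := exists_isClopen_of_totally_separated hne
  have := SetLike.ext_iff.1 (congrArg PrimeSpectrum.asIdeal hpt) (LocallyConstant.charFn A hU)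
  rw [mem_pt, charFn_of_mem A T hU h1] at this
  exact (comap (algebraMap A B) x).isPrime.ne_top ((Ideal.eq_top_iff_one _).2 (this.2 (by
    show toBAlg hB ν (LocallyConstant.charFn A hU) ∈ x.asIdeal
    rw [toBAlg_charFn]
    exact not_not.1 fun h => h2 ((idem_notMem hB ν U hU hm).1 h))))

variable (hν : ∀ x : ProEtW.closedPoints (PrimeSpectrum B),
  ConnectedComponents.mk (comap (algebraMap A B) x.1) = g (ν x))

include hν in
theorem isUnit_toBAlg_of_mem {s : LC A T} (hs : s ∈ IndEt.idemSubmonoid (pullSet g)) :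
    IsUnit (toBAlg (A := A) hB ν s) := by
  refine isUnit_toBAlg hB ν fun m hm h => ?_
  exact hs.2 _ ⟨(comap (algebraMap A B) ⟨m, hm.isPrime⟩, νm ν m hm),
    hν ⟨⟨m, hm.isPrime⟩, mem_closedPoints.2 hm⟩, rfl⟩ h

/-- The universal map out of the pullback ring. -/
noncomputable def pullMap : PullRing g →ₐ[A] B :=
  IsLocalization.liftAlgHom (M := IndEt.idemSubmonoid (pullSet g)) (f := toBAlg (A := A) hB ν)
    fun y => isUnit_toBAlg_of_mem g hB ν hν y.2

theorem pullMap_algebraMap (s : LC A T) :
    pullMap g hB ν hν (algebraMap (LC A T) (PullRing g) s) = toBAlg hB ν s := by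
  show IsLocalization.liftAlgHom _ _ = _
  rw [IsLocalization.liftAlgHom_apply, IsLocalization.lift_eq]
  rfl

theorem pullHomeo_pullMap {x : PrimeSpectrum B} (hx : x ∈ ProEtW.closedPoints (PrimeSpectrum B)) :
    (pullHomeo g (comap (pullMap g hB ν hν).toRingHom x)).1 = (comap (algebraMap A B) x, ν ⟨x, hx⟩) := by
  refine (pt_bijective A T).1 ?_
  rw [pt_pullHomeo, ← comap_toBAlg hB ν hx, ← comap_comp_apply]
  congr 2
  exact RingHom.ext (pullMap_algebraMap g hB ν hν)

theorem isIndZariski_of_algEquiv {A B C : Type u} [CommRing A] [CommRing B] [CommRing C] [Algebra A B]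
    [Algebra A C] (e : B ≃ₐ[A] C) (h : EtPBC.IsIndZariski A B) : EtPBC.IsIndZariski A C :=
  IndEt.of_exists_localIso fun Z _ _ _ f => by
    obtain ⟨V, i1, i2, i3, a, b, hab⟩ := IndEt.exists_localIso h (e.symm.toAlgHom.comp f)
    refine ⟨V, i1, i2, i3, a, e.toAlgHom.comp b, ?_⟩
    rw [AlgHom.comp_assoc, hab]
    ext z
    simp

/-- A map identifying local rings between w-local rings, w-local on spectra, is ind-Zariski. -/
theorem isIndZariski_of_identifies {A B : Type u} [CommRing A] [CommRing B] [Algebra A B]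
    (h1 : EtPBC.IdentifiesLocalRings A B) (hA : ProEtW.IsWLocal (PrimeSpectrum A))
    (hB : ProEtW.IsWLocal (PrimeSpectrum B)) (h4 : ProEtW.IsWLocalMap (comap (algebraMap A B))) :
    EtPBC.IsIndZariski A B := by
  haveI := hA.1
  haveI := hB.1
  let g : C(ConnectedComponents (PrimeSpectrum B), ConnectedComponents (PrimeSpectrum A)) :=
    ⟨_, (continuous_comap (algebraMap A B)).connectedComponentsMap_continuous⟩
  let ν : C(ProEtW.closedPoints (PrimeSpectrum B), ConnectedComponents (PrimeSpectrum B)) :=
    ⟨fun x => ConnectedComponents.mk x.1, ConnectedComponents.continuous_coe.comp continuous_subtype_val⟩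
  have hν : ∀ x : ProEtW.closedPoints (PrimeSpectrum B),
      ConnectedComponents.mk (comap (algebraMap A B) x.1) = g (ν x) := fun x => rfl
  let φ := pullMap g hB ν hν
  letI := φ.toRingHom.toAlgebra
  haveI : IsScalarTower A (PullRing g) B := IsScalarTower.of_algebraMap_eq fun a => (φ.commutes a).symm
  have hclosed : ∀ x ∈ ProEtW.closedPoints (PrimeSpectrum B),
      comap (algebraMap (PullRing g) B) x ∈ ProEtW.closedPoints (PrimeSpectrum (PullRing g)) := fun x hx => by
    rw [mem_closedPoints_pullRing g hA, ← pullHomeo_fst]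
    show (pullHomeo g (comap φ.toRingHom x)).1.1 ∈ _
    rw [pullHomeo_pullMap g hB ν hν hx]
    exact h4.2 x hx
  obtain ⟨e, he⟩ := exists_components_pullRing g
  have key : ∀ x ∈ ProEtW.closedPoints (PrimeSpectrum B),
      e ((continuous_comap (algebraMap (PullRing g) B)).connectedComponentsMap (ConnectedComponents.mk x)) =
        ConnectedComponents.mk x := fun x hx => by
    refine (he _).trans ?_
    exact congrArg Prod.snd (pullHomeo_pullMap g hB ν hν hx)
  have hall : ∀ c : ConnectedComponents (PrimeSpectrum B),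
      e ((continuous_comap (algebraMap (PullRing g) B)).connectedComponentsMap c) = c := fun c => by
    obtain ⟨x, rfl⟩ := ConnectedComponents.surjective_coe c
    obtain ⟨m, ⟨hm, hxm⟩, -⟩ := hB.2.2 x
    rw [show ConnectedComponents.mk x = ConnectedComponents.mk m from (mk_eq_of_specializes hxm).symm]
    exact key m hm
  have hbij : Function.Bijective (algebraMap (PullRing g) B) := by
    refine bijective_of_identifies (IndEt.identifiesLocalRings_of_comp
      (IndEt.identifiesLocalRings_of_isIndZariski (isIndZariski_pullRing g)) h1) (isWLocal_pullRing g hA) hB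
      ⟨isSpectralMap_comap _, hclosed⟩ ⟨fun c c' h => ?_, fun c => ⟨e c, e.injective (hall _)⟩⟩
    have h' := congrArg e h
    rwa [hall, hall] at h'
  exact isIndZariski_of_algEquiv (AlgEquiv.ofBijective φ hbij) (isIndZariski_pullRing g)

end GrothLib.WLocal
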