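import Groth.Agent.Lib.WLocal.StrictCover
import Groth.Agent.Lib.WLocal.Contractible
import Groth.Agent.S0737

/-!
# The w-local square of ind-étale covers
-/

set_option autoImplicit false

universe u

open TensorProduct PrimeSpectrum

namespace GrothLib.WLocal

theorem strictlyHenselian_of_ringEquiv {R S : Type u} [CommRing R] [CommRing S] (e : R ≃+* S)
    (h : EtCoh.IsStrictlyHenselianLocalRing R) : EtCoh.IsStrictlyHenselianLocalRing S := by
  obtain ⟨_, _⟩ := h
  haveI : IsLocalRing S := e.isLocalRing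
  have hm : (IsLocalRing.maximalIdeal R).map e.toRingHom = IsLocalRing.maximalIdeal S :=
    IsLocalRing.eq_maximalIdeal ((Ideal.map_eq_top_or_isMaximal_of_surjective e.toRingHom e.surjective
      (IsLocalRing.maximalIdeal.isMaximal R)).resolve_left fun h => (IsLocalRing.maximalIdeal.isMaximal R).ne_top (by
        have := congrArg (Ideal.comap e.toRingHom) h
        rw [Ideal.comap_top] at this
        rwa [Ideal.comap_map_of_bijective e.toRingHom e.bijective] at this))
  haveI hh : HenselianLocalRing S := by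
    refine Hensel.henselianLocalRing_of_henselianRing ?_
    rw [← hm]
    haveI : HenselianRing R (IsLocalRing.maximalIdeal R) := inferInstance
    exact Hensel.henselianRing_of_ringEquiv e _
  refine ⟨hh, IsSepClosed.of_exists_root _ fun p hp hirr hsep => ?_⟩
  let E := IsLocalRing.ResidueField.mapEquiv e
  obtain ⟨x, hx⟩ := IsSepClosed.exists_root (p.map E.symm.toRingHom)
    (by rw [Polynomial.degree_map]; exact hirr.degree_pos.ne') hsep.map
  refine ⟨E x, ?_⟩
  have := congrArg E.toRingHom hx.eq_zero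
  rwa [map_zero, Polynomial.eval_map, Polynomial.hom_eval₂,
    show (E.toRingHom).comp E.symm.toRingHom = RingHom.id _ from RingHom.ext fun y => E.apply_symm_apply y,
    Polynomial.eval₂_id] at this

theorem exists_over {H C : Type u} [CommRing H] [CommRing C] [Algebra H C] (J : Ideal H)
    (hbij : Function.Bijective (Ideal.quotientMap (J.map (algebraMap H C)) (algebraMap H C) Ideal.le_comap_map))
    (q : PrimeSpectrum H) (hq : J ≤ q.asIdeal) :
    ∃ c : PrimeSpectrum C, J.map (algebraMap H C) ≤ c.asIdeal ∧ comap (algebraMap H C) c = q := by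
  let e := RingEquiv.ofBijective _ hbij
  obtain ⟨p, rfl⟩ : q ∈ Set.range (comap (Ideal.Quotient.mk J)) := by
    rw [range_comap_of_surjective _ _ Ideal.Quotient.mk_surjective, Ideal.mk_ker]
    exact hq
  refine ⟨comap (Ideal.Quotient.mk _) (comap e.symm.toRingHom p), fun x hx => ?_, ?_⟩
  · show Ideal.Quotient.mk (J.map (algebraMap H C)) x ∈ (comap e.symm.toRingHom p).asIdeal
    rw [Ideal.Quotient.eq_zero_iff_mem.2 hx]
    exact Ideal.zero_mem _
  · ext x
    show e.symm (e (Ideal.Quotient.mk J x)) ∈ p.asIdeal ↔ _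
    rw [e.symm_apply_apply]
    exact Iff.rfl

/-- An ind-étale w-local cover with strictly henselian local rings at closed points. -/
theorem exists_strict_wLocal (A : Type u) [CommRing A] :
    ∃ (C : Type u) (_ : CommRing C) (_ : Algebra A C),
      Module.FaithfullyFlat A C ∧ EtPBC.IsIndEtale A C ∧ ProEtW.IsWLocal (PrimeSpectrum C) ∧
      comap (algebraMap A C) '' ProEtW.closedPoints (PrimeSpectrum C) = Set.univ ∧
      ∀ (m : Ideal C) [m.IsMaximal], EtCoh.IsStrictlyHenselianLocalRing (Localization.AtPrime m) := by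
  let A' := WLoc A
  have hA' := isWLocal_wLoc A
  let H := GeomHull A'
  haveI := IndEt.weaklyEtale (isIndEtale_geomHull A')
  let I : Ideal A' := vanishingIdeal (ProEtW.closedPoints (PrimeSpectrum A'))
  have hI : zeroLocus (I : Set A') = ProEtW.closedPoints (PrimeSpectrum A') := by
    rw [zeroLocus_vanishingIdeal_eq_closure]
    exact hA'.2.1.closure_eq
  let J := I.map (algebraMap A' H)
  have hJ : ∀ q : PrimeSpectrum H, J ≤ q.asIdeal ↔
      comap (algebraMap A' H) q ∈ ProEtW.closedPoints (PrimeSpectrum A') := fun q => by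
    rw [← hI]; exact Ideal.map_le_iff_le_comap
  have hmax : ∀ q : PrimeSpectrum H, J ≤ q.asIdeal → q.asIdeal.IsMaximal := fun q hq =>
    isMaximal_of_weaklyEtale q (mem_closedPoints.1 ((hJ q).1 hq))
  obtain ⟨C, _, _, hiz, hwl, hcl, hbij⟩ := exists_along H J hmax
  letI : Algebra A' C := ((algebraMap H C).comp (algebraMap A' H)).toAlgebra
  haveI : IsScalarTower A' H C := IsScalarTower.of_algebraMap_eq fun _ => rfl
  letI : Algebra A C := ((algebraMap A' C).comp (algebraMap A A')).toAlgebra
  haveI : IsScalarTower A A' C := ⟨fun a x c => by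
    rw [Algebra.smul_def (a • x), Algebra.smul_def x c, Algebra.smul_def a (algebraMap A' C x * c),
      Algebra.smul_def a x, map_mul, mul_assoc]
    rfl⟩
  have hie : EtPBC.IsIndEtale A C :=
    IndEt.isIndEtale_trans (IndEt.isIndEtale_of_isIndZariski (isIndZariski_wLoc A))
      (IndEt.isIndEtale_trans (isIndEtale_geomHull A') (IndEt.isIndEtale_of_isIndZariski hiz))
  have himg : comap (algebraMap A C) '' ProEtW.closedPoints (PrimeSpectrum C) = Set.univ := by
    refine Set.eq_univ_of_forall fun x => ?_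
    obtain ⟨m, hm, rfl⟩ := (bijOn_closedPoints A).surjOn (Set.mem_univ x)
    haveI := faithfullyFlat_geomHull A'
    obtain ⟨q, rfl⟩ := PrimeSpectrum.comap_surjective_of_faithfullyFlat (A := A') (B := H) m
    obtain ⟨c, hc, hcq⟩ := exists_over J hbij q ((hJ q).2 hm)
    refine ⟨c, hcl ▸ (hc : c ∈ zeroLocus ((J.map (algebraMap H C) : Ideal C) : Set C)), ?_⟩
    rw [← hcq, ← comap_comp_apply, ← comap_comp_apply]
    rfl
  haveI := IndEt.flat hie
  refine ⟨C, inferInstance, inferInstance,
    Module.FaithfullyFlat.of_comap_surjective fun x => ?_, hie, hwl, himg, fun n hn => ?_⟩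
  · obtain ⟨c, -, hc⟩ := himg ▸ Set.mem_univ x
    exact ⟨c, hc⟩
  · have hc : J.map (algebraMap H C) ≤ n :=
      (Set.ext_iff.1 hcl ⟨n, hn.isPrime⟩).1 (mem_closedPoints.2 hn)
    haveI : (n.comap (algebraMap H C)).IsMaximal :=
      hmax ⟨_, Ideal.IsPrime.comap _⟩ (Ideal.map_le_iff_le_comap.1 hc)
    exact strictlyHenselian_of_ringEquiv
      (RingEquiv.ofBijective _ (IndEt.identifiesLocalRings_of_isIndZariski hiz ⟨n, hn.isPrime⟩))
      (Groth.Agent.S0675.result H (hasEtaleRetractions_geomHull A') _)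

theorem algebraicResidueExtensions_baseChange (A B C : Type u) [CommRing A] [CommRing B] [CommRing C]
    [Algebra A B] [Algebra A C] (h : ProEtW.AlgebraicResidueExtensions A B) :
    ProEtW.AlgebraicResidueExtensions C (C ⊗[A] B) := by
  intro Q _
  let r : B →+* C ⊗[A] B := Algebra.TensorProduct.includeRight.toRingHom
  let c := Q.comap (algebraMap C (C ⊗[A] B))
  let q := Q.comap r
  haveI : q.IsPrime := Ideal.IsPrime.comap r
  haveI : c.IsPrime := Ideal.IsPrime.comap _
  haveI := h q
  have hcomp : ∀ a : A, r (algebraMap A B a) = algebraMap C (C ⊗[A] B) (algebraMap A C a) := fun a => by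
    show (1 : C) ⊗ₜ[A] algebraMap A B a = algebraMap A C a ⊗ₜ[A] (1 : B)
    rw [Algebra.algebraMap_eq_smul_one, Algebra.algebraMap_eq_smul_one, tmul_smul, smul_tmul']
  have hqc : q.comap (algebraMap A B) = c.comap (algebraMap A C) := by
    ext a
    show r (algebraMap A B a) ∈ Q ↔ algebraMap C (C ⊗[A] B) (algebraMap A C a) ∈ Q
    rw [hcomp]
  let f : A ⧸ q.comap (algebraMap A B) →+* C ⧸ c :=
    Ideal.quotientMap c (algebraMap A C) hqc.le
  have hf : Function.Injective f := Ideal.quotientMap_injective' hqc.ge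
  let g : B ⧸ q →+* (C ⊗[A] B) ⧸ Q := Ideal.quotientMap Q r (le_refl q)
  have hsq : (algebraMap (C ⧸ c) ((C ⊗[A] B) ⧸ Q)).comp f =
      g.comp (algebraMap (A ⧸ q.comap (algebraMap A B)) (B ⧸ q)) := by
    refine Ideal.Quotient.ringHom_ext (RingHom.ext fun a => ?_)
    show Ideal.Quotient.mk Q (algebraMap C (C ⊗[A] B) (algebraMap A C a)) =
      Ideal.Quotient.mk Q (r (algebraMap A B a))
    rw [hcomp]
  refine ⟨fun z => ?_⟩
  obtain ⟨z, rfl⟩ := Ideal.Quotient.mk_surjective z
  induction z with
  | zero => rw [map_zero]; exact isAlgebraic_zero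
  | tmul x b =>
    rw [show Ideal.Quotient.mk Q (x ⊗ₜ[A] b) =
      algebraMap (C ⧸ c) ((C ⊗[A] B) ⧸ Q) (Ideal.Quotient.mk c x) * g (Ideal.Quotient.mk q b) by
        show _ = Ideal.Quotient.mk Q (algebraMap C (C ⊗[A] B) x) * Ideal.Quotient.mk Q (r b)
        rw [← map_mul]
        congr 1
        show x ⊗ₜ[A] b = (x ⊗ₜ[A] (1 : B)) * ((1 : C) ⊗ₜ[A] b)
        rw [Algebra.TensorProduct.tmul_mul_tmul, mul_one, one_mul]]
    exact (isAlgebraic_algebraMap _).mul
      ((Algebra.IsAlgebraic.isAlgebraic (Ideal.Quotient.mk q b)).ringHom_of_comp_eq f g hf hsq)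
  | add x y hx hy => rw [map_add]; exact hx.add hy

theorem exists_prime_tensor {A B C : Type u} [CommRing A] [CommRing B] [CommRing C]
    [Algebra A B] [Algebra A C] (q : PrimeSpectrum B) (c : PrimeSpectrum C)
    (h : comap (algebraMap A B) q = comap (algebraMap A C) c) :
    ∃ Q : PrimeSpectrum (C ⊗[A] B), comap (algebraMap C (C ⊗[A] B)) Q = c ∧
      comap (Algebra.TensorProduct.includeRight : B →ₐ[A] C ⊗[A] B).toRingHom Q = q := by
  have hp : q.asIdeal.comap (algebraMap A B) = c.asIdeal.comap (algebraMap A C) :=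
    congrArg PrimeSpectrum.asIdeal h
  let p := c.asIdeal.comap (algebraMap A C)
  haveI : p.IsPrime := Ideal.IsPrime.comap _
  let k := p.ResidueField
  letI : Algebra k q.asIdeal.ResidueField :=
    (Ideal.ResidueField.map p q.asIdeal (algebraMap A B) hp.symm).toAlgebra
  letI : Algebra k c.asIdeal.ResidueField :=
    (Ideal.ResidueField.map p c.asIdeal (algebraMap A C) rfl).toAlgebra
  let T := c.asIdeal.ResidueField ⊗[k] q.asIdeal.ResidueField
  obtain ⟨M, hM⟩ := Ideal.exists_maximal T
  letI := Ideal.Quotient.field M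
  haveI : IsScalarTower A k q.asIdeal.ResidueField := IsScalarTower.of_algebraMap_eq fun a => by
    show _ = Ideal.ResidueField.map p q.asIdeal (algebraMap A B) hp.symm (algebraMap A k a)
    rw [Ideal.ResidueField.map_algebraMap, ← IsScalarTower.algebraMap_apply]
  haveI : IsScalarTower A k c.asIdeal.ResidueField := IsScalarTower.of_algebraMap_eq fun a => by
    show _ = Ideal.ResidueField.map p c.asIdeal (algebraMap A C) rfl (algebraMap A k a)
    rw [Ideal.ResidueField.map_algebraMap, ← IsScalarTower.algebraMap_apply]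
  let mk : T →ₐ[A] T ⧸ M := (Ideal.Quotient.mkₐ k M).restrictScalars A
  let φc : C →ₐ[A] T ⧸ M := mk.comp
    (((Algebra.TensorProduct.includeLeft : c.asIdeal.ResidueField →ₐ[k] T).restrictScalars A).comp
      (IsScalarTower.toAlgHom A C c.asIdeal.ResidueField))
  let φq : B →ₐ[A] T ⧸ M := mk.comp
    (((Algebra.TensorProduct.includeRight : q.asIdeal.ResidueField →ₐ[k] T).restrictScalars A).comp
      (IsScalarTower.toAlgHom A B q.asIdeal.ResidueField))
  let Φ : C ⊗[A] B →ₐ[A] T ⧸ M := Algebra.TensorProduct.lift φc φq fun _ _ => Commute.all _ _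
  refine ⟨⟨RingHom.ker Φ.toRingHom, RingHom.ker_isPrime _⟩, PrimeSpectrum.ext (Ideal.ext fun x => ?_),
    PrimeSpectrum.ext (Ideal.ext fun x => ?_)⟩
  · show Φ (x ⊗ₜ[A] (1 : B)) = 0 ↔ _
    rw [Algebra.TensorProduct.lift_tmul, map_one, mul_one]
    exact (map_eq_zero (((Ideal.Quotient.mk M).comp
      (Algebra.TensorProduct.includeLeft : c.asIdeal.ResidueField →ₐ[k] T).toRingHom))).trans
      Ideal.algebraMap_residueField_eq_zero
  · show Φ ((1 : C) ⊗ₜ[A] x) = 0 ↔ _
    rw [Algebra.TensorProduct.lift_tmul, map_one, one_mul]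
    exact (map_eq_zero (((Ideal.Quotient.mk M).comp
      (Algebra.TensorProduct.includeRight : q.asIdeal.ResidueField →ₐ[k] T).toRingHom))).trans
      Ideal.algebraMap_residueField_eq_zero

theorem exists_square (A B : Type u) [CommRing A] [CommRing B] [Algebra A B]
    (h : ProEtW.AlgebraicResidueExtensions A B) :
    ∃ (C D : Type u) (_ : CommRing C) (_ : CommRing D) (_ : Algebra A C) (_ : Algebra B D)
      (_ : Algebra C D) (_ : Algebra A D) (_ : IsScalarTower A C D) (_ : IsScalarTower A B D),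
      Module.FaithfullyFlat A C ∧ EtPBC.IsIndEtale A C ∧ Module.FaithfullyFlat B D ∧
      EtPBC.IsIndEtale B D ∧ ProEtW.IsWLocal (PrimeSpectrum C) ∧ ProEtW.IsWLocal (PrimeSpectrum D) ∧
      ProEtW.IsWLocalMap (comap (algebraMap C D)) ∧
      ProEtW.closedPoints (PrimeSpectrum D) =
        comap (algebraMap C D) ⁻¹' ProEtW.closedPoints (PrimeSpectrum C) ∧
      comap (algebraMap A C) '' ProEtW.closedPoints (PrimeSpectrum C) = Set.univ ∧
      comap (algebraMap B D) '' ProEtW.closedPoints (PrimeSpectrum D) = Set.univ ∧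
      ∀ (m : Ideal C) [m.IsMaximal], EtCoh.IsStrictlyHenselianLocalRing (Localization.AtPrime m) := by
  obtain ⟨C, _, _, hff, hie, hwl, himg, hsh⟩ := exists_strict_wLocal A
  let D₀ := C ⊗[A] B
  let I : Ideal C := vanishingIdeal (ProEtW.closedPoints (PrimeSpectrum C))
  have hI : zeroLocus (I : Set C) = ProEtW.closedPoints (PrimeSpectrum C) := by
    rw [zeroLocus_vanishingIdeal_eq_closure]
    exact hwl.2.1.closure_eq
  obtain ⟨-, D, _, _, _, _, hiz, hbij, hDwl, hDmap, hDcl⟩ :=
    Groth.Agent.S0737.result C D₀ hwl I (isRadical_vanishingIdeal _) hI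
      (algebraicResidueExtensions_baseChange A B C h)
  let r : B →+* D₀ := (Algebra.TensorProduct.includeRight : B →ₐ[A] D₀).toRingHom
  letI : Algebra B D₀ := r.toAlgebra
  letI : Algebra B D := ((algebraMap D₀ D).comp r).toAlgebra
  haveI : IsScalarTower B D₀ D := IsScalarTower.of_algebraMap_eq fun _ => rfl
  letI : Algebra A D := ((algebraMap D₀ D).comp (algebraMap A D₀)).toAlgebra
  haveI : IsScalarTower A C D := IsScalarTower.of_algebraMap_eq fun a => by
    show algebraMap D₀ D (algebraMap A D₀ a) = _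
    rw [IsScalarTower.algebraMap_apply A C D₀, IsScalarTower.algebraMap_apply C D₀ D]
  haveI : IsScalarTower A B D := IsScalarTower.of_algebraMap_eq fun a => by
    show algebraMap D₀ D (algebraMap A D₀ a) = algebraMap D₀ D (r (algebraMap A B a))
    congr 1
    exact ((Algebra.TensorProduct.includeRight : B →ₐ[A] D₀).commutes a).symm
  have hbc : EtPBC.IsIndEtale B D₀ :=
    Hensel.isIndEtale_of_algEquiv (IndEt.isIndEtale_baseChange hie)
      (AlgEquiv.ofRingEquiv (f := (Algebra.TensorProduct.comm A B C).toRingEquiv) fun b => rfl)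
  have hieD : EtPBC.IsIndEtale B D := IndEt.isIndEtale_trans hbc (IndEt.isIndEtale_of_isIndZariski hiz)
  have himgD : comap (algebraMap B D) '' ProEtW.closedPoints (PrimeSpectrum D) = Set.univ := by
    refine Set.eq_univ_of_forall fun q => ?_
    obtain ⟨c, hc, hcp⟩ := himg ▸ Set.mem_univ (comap (algebraMap A B) q)
    obtain ⟨Q, hQc, hQq⟩ := exists_prime_tensor q c hcp.symm
    have hQI : I.map (algebraMap C D₀) ≤ Q.asIdeal := by
      rw [Ideal.map_le_iff_le_comap]
      have : c ∈ zeroLocus (I : Set C) := hI ▸ hc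
      rw [← hQc] at this
      exact this
    obtain ⟨d, -, hd⟩ := exists_over (I.map (algebraMap C D₀)) hbij Q hQI
    have hdc : comap (algebraMap C D) d = c := by
      rw [IsScalarTower.algebraMap_eq C D₀ D, comap_comp_apply, hd, hQc]
    refine ⟨d, hDcl ▸ (show comap (algebraMap C D) d ∈ _ from hdc ▸ hc), ?_⟩
    rw [IsScalarTower.algebraMap_eq B D₀ D, comap_comp_apply, hd]
    exact hQq
  haveI := IndEt.flat hieD
  refine ⟨C, D, inferInstance, inferInstance, inferInstance, inferInstance, inferInstance, inferInstance,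
    inferInstance, inferInstance, hff, hie, Module.FaithfullyFlat.of_comap_surjective fun x => ?_, hieD,
    hwl, hDwl, hDmap, hDcl, himg, himgD, hsh⟩
  obtain ⟨d, -, hd⟩ := himgD ▸ Set.mem_univ x
  exact ⟨d, hd⟩

end GrothLib.WLocal
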