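import Groth.Prelude.Def_ProEtW
import Mathlib.RingTheory.IntegralClosure.IsIntegralClosure.Basic
import Mathlib.Topology.Connected.Separation

/-!
# Spectra of rings in which all primes are maximal
-/

set_option autoImplicit false

universe u

open PrimeSpectrum

namespace GrothLib.WLocal

variable {B : Type u} [CommRing B]

theorem isClopen_basicOpen (h : ∀ p : PrimeSpectrum B, p.asIdeal.IsMaximal) (a : B) :
    IsClopen (basicOpen a : Set (PrimeSpectrum B)) := by
  refine ⟨?_, (basicOpen a).2⟩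
  let S : Submonoid B :=
    { carrier := {x | ∃ (n : ℕ) (b : B), x = a ^ n * (1 + a * b)}
      one_mem' := ⟨0, 0, by simp⟩
      mul_mem' := by
        rintro _ _ ⟨n, b, rfl⟩ ⟨m, c, rfl⟩
        exact ⟨n + m, b + c + a * b * c, by ring⟩ }
  have h0 : (0 : B) ∈ S := by
    by_contra h0
    obtain ⟨p, hp, -, hpS⟩ := Ideal.exists_le_prime_disjoint (⊥ : Ideal B) S
      (Set.disjoint_left.2 fun x hx hxS => h0 (by rwa [show x = 0 from hx] at hxS))
    have hap : a ∉ p := fun ha => Set.disjoint_left.1 hpS ha ⟨1, 0, by simp⟩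
    obtain ⟨b, hb⟩ := (h ⟨p, hp⟩).exists_inv hap
    obtain ⟨i, hi, hbi⟩ := hb
    exact Set.disjoint_left.1 hpS hi ⟨0, -b, by linear_combination hbi⟩
  obtain ⟨n, b, hnb⟩ := h0
  have : (basicOpen a : Set (PrimeSpectrum B)) = zeroLocus {1 + a * b} := by
    ext p
    rw [mem_zeroLocus, Set.singleton_subset_iff, SetLike.mem_coe, mem_basicOpen]
    constructor
    · intro ha
      exact (p.isPrime.mem_or_mem (hnb ▸ p.asIdeal.zero_mem)).resolve_left
        fun hn => ha (p.isPrime.mem_of_pow_mem n hn)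
    · intro h1 ha
      exact p.isPrime.ne_top ((Ideal.eq_top_iff_one _).2
        (by simpa using p.asIdeal.sub_mem h1 (p.asIdeal.mul_mem_right b ha)))
  rw [this]
  exact isClosed_zeroLocus _

theorem totallySeparatedSpace (h : ∀ p : PrimeSpectrum B, p.asIdeal.IsMaximal) :
    TotallySeparatedSpace (PrimeSpectrum B) := by
  refine totallySeparatedSpace_iff_exists_isClopen.2 fun p q hpq => ?_
  obtain ⟨a, haq, hap⟩ : ∃ a, a ∈ q.asIdeal ∧ a ∉ p.asIdeal := by
    by_contra hne
    push Not at hne
    exact hpq (PrimeSpectrum.ext ((h q).eq_of_le p.isPrime.ne_top hne).symm)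
  exact ⟨_, isClopen_basicOpen h a, hap, fun hq => hq haq⟩

theorem isProfinite (h : ∀ p : PrimeSpectrum B, p.asIdeal.IsMaximal) :
    ProEtW.IsProfinite (PrimeSpectrum B) := by
  haveI := totallySeparatedSpace h
  exact ⟨inferInstance, inferInstance, inferInstance⟩

theorem isMaximal_of_t2 [T2Space (PrimeSpectrum B)] (p : PrimeSpectrum B) : p.asIdeal.IsMaximal :=
  (isClosed_singleton_iff_isMaximal p).1 isClosed_singleton

end GrothLib.WLocal
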