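import Groth.Agent.Lib.WLocal.Basic
import Groth.Agent.Lib.WLocal.DimZero
import Mathlib.RingTheory.Jacobson.Ideal

/-!
# Idempotents of rings with w-local spectrum
-/

set_option autoImplicit false

universe u

open PrimeSpectrum

namespace GrothLib.WLocal

variable {B : Type u} [CommRing B]

theorem mem_closedPoints {p : PrimeSpectrum B} :
    p ∈ ProEtW.closedPoints (PrimeSpectrum B) ↔ p.asIdeal.IsMaximal :=
  isClosed_singleton_iff_isMaximal p

/-- Idempotents are determined by their values at maximal ideals. -/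
theorem eq_of_forall_isMaximal {e f : B} (he : IsIdempotentElem e) (hf : IsIdempotentElem f)
    (h : ∀ m : Ideal B, m.IsMaximal → (e ∈ m ↔ f ∈ m)) : e = f := by
  have key : ∀ {a b : B}, IsIdempotentElem a → IsIdempotentElem b →
      (∀ m : Ideal B, m.IsMaximal → (a ∈ m ↔ b ∈ m)) → a * b = a := by
    intro a b ha hb h
    have hid : IsIdempotentElem (a * (1 - b)) := ha.mul hb.one_sub
    have hmem : ∀ m : Ideal B, m.IsMaximal → a * (1 - b) ∈ m := fun m hm => by
      by_cases ham : a ∈ m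
      · exact m.mul_mem_right _ ham
      · have : b * (1 - b) ∈ m := by
          rw [mul_sub, mul_one, hb.eq, sub_self]; exact m.zero_mem
        exact m.mul_mem_left a ((hm.isPrime.mem_or_mem this).resolve_left (fun hb' => ham ((h m hm).2 hb')))
    have hu : IsUnit (1 - a * (1 - b)) := by
      by_contra hu
      obtain ⟨m, hm, hmm⟩ := exists_max_ideal_of_mem_nonunits hu
      exact hm.ne_top ((Ideal.eq_top_iff_one _).2 (by simpa using m.add_mem hmm (hmem m hm)))
    have : a * (1 - b) = 0 := by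
      apply hu.mul_left_cancel
      rw [mul_zero, sub_mul, one_mul, hid.eq, sub_self]
    linear_combination -this
  rw [← key he hf h, mul_comm, key hf he fun m hm => (h m hm).symm]

/-- A decomposition of the set of closed points of a w-local spectrum into two closed subsets comes
from an idempotent. -/
theorem exists_idempotent (hB : ProEtW.IsWLocal (PrimeSpectrum B)) {U V : Set (PrimeSpectrum B)}
    (hU : IsClosed U) (hV : IsClosed V) (hUV : U ∪ V = ProEtW.closedPoints (PrimeSpectrum B))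
    (hd : Disjoint U V) :
    ∃ e : B, IsIdempotentElem e ∧
      ∀ m ∈ ProEtW.closedPoints (PrimeSpectrum B), e ∉ m.asIdeal ↔ m ∈ U := by
  obtain ⟨J₁, rfl⟩ := (isClosed_iff_zeroLocus_ideal _).1 hU
  obtain ⟨J₂, rfl⟩ := (isClosed_iff_zeroLocus_ideal _).1 hV
  let S : Submonoid B :=
    { carrier := {s | ∃ a ∈ J₁, ∃ b ∈ J₂, s = (1 + a) * (1 + b)}
      one_mem' := ⟨0, J₁.zero_mem, 0, J₂.zero_mem, by ring⟩
      mul_mem' := by
        rintro _ _ ⟨a, ha, b, hb, rfl⟩ ⟨c, hc, d, hd, rfl⟩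
        exact ⟨a + c + a * c, J₁.add_mem (J₁.add_mem ha hc) (J₁.mul_mem_right _ ha),
          b + d + b * d, J₂.add_mem (J₂.add_mem hb hd) (J₂.mul_mem_right _ hb), by ring⟩ }
  have h0 : (0 : B) ∈ S := by
    by_contra h0
    obtain ⟨p, hp, -, hpS⟩ := Ideal.exists_le_prime_disjoint (⊥ : Ideal B) S
      (Set.disjoint_left.2 fun x hx hxS => h0 (by rwa [show x = 0 from hx] at hxS))
    have hne : ∀ J : Ideal B, (∀ a ∈ J, 1 + a ∈ S) → ∃ m : PrimeSpectrum B,
        m ∈ ProEtW.closedPoints (PrimeSpectrum B) ∧ (⟨p, hp⟩ : PrimeSpectrum B) ⤳ m ∧ J ≤ m.asIdeal := by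
      intro J hJ
      have : p ⊔ J ≠ ⊤ := fun htop => by
        obtain ⟨q, hq, a, ha, hqa⟩ := Submodule.mem_sup.1 (htop ▸ (Submodule.mem_top : (1 : B) ∈ ⊤))
        refine Set.disjoint_left.1 hpS hq ?_
        rw [show q = 1 + (-a) by linear_combination hqa]
        exact hJ _ (J.neg_mem ha)
      obtain ⟨m, hm, hle⟩ := Ideal.exists_le_maximal _ this
      exact ⟨⟨m, hm.isPrime⟩, mem_closedPoints.2 hm,
        (le_iff_specializes _ _).1 (le_sup_left.trans hle), le_sup_right.trans hle⟩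
    obtain ⟨m₁, hm₁, hp₁, hJ₁⟩ := hne J₁ fun a ha => ⟨a, ha, 0, J₂.zero_mem, by ring⟩
    obtain ⟨m₂, hm₂, hp₂, hJ₂⟩ := hne J₂ fun a ha => ⟨0, J₁.zero_mem, a, ha, by ring⟩
    obtain ⟨c, -, huniq⟩ := hB.2.2 (⟨p, hp⟩ : PrimeSpectrum B)
    have h12 : m₁ = m₂ := (huniq m₁ ⟨hm₁, hp₁⟩).trans (huniq m₂ ⟨hm₂, hp₂⟩).symm
    exact Set.disjoint_left.1 hd (show m₁ ∈ zeroLocus (J₁ : Set B) from hJ₁) (h12 ▸ hJ₂)
  obtain ⟨a, ha, b, hb, hab⟩ := h0
  have hmax : ∀ m ∈ ProEtW.closedPoints (PrimeSpectrum B),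
      (m ∈ zeroLocus (J₁ : Set B) → 1 + a ∉ m.asIdeal ∧ 1 + b ∈ m.asIdeal) ∧
      (m ∈ zeroLocus (J₂ : Set B) → 1 + b ∉ m.asIdeal ∧ 1 + a ∈ m.asIdeal) := by
    intro m hm
    have hone : ∀ {x : B}, x ∈ m.asIdeal → 1 + x ∉ m.asIdeal := fun {x} hx h1 =>
      m.isPrime.ne_top ((Ideal.eq_top_iff_one _).2 (by simpa using m.asIdeal.sub_mem h1 hx))
    constructor <;> intro h
    · exact ⟨hone (h ha), (m.isPrime.mem_or_mem (hab ▸ m.asIdeal.zero_mem)).resolve_left (hone (h ha))⟩
    · exact ⟨hone (h hb), (m.isPrime.mem_or_mem (hab ▸ m.asIdeal.zero_mem)).resolve_right (hone (h hb))⟩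
  have hcases : ∀ m ∈ ProEtW.closedPoints (PrimeSpectrum B),
      m ∈ zeroLocus (J₁ : Set B) ∨ m ∈ zeroLocus (J₂ : Set B) := fun m hm => by
    rw [← hUV] at hm; exact hm
  have hu : IsUnit ((1 + a) + (1 + b)) := by
    by_contra hu
    obtain ⟨M, hM, hMm⟩ := exists_max_ideal_of_mem_nonunits hu
    rcases hcases ⟨M, hM.isPrime⟩ (mem_closedPoints.2 hM) with h | h
    · obtain ⟨h1, h2⟩ := (hmax _ (mem_closedPoints.2 hM)).1 h
      exact h1 ((Ideal.add_mem_iff_left M h2).1 hMm)
    · obtain ⟨h1, h2⟩ := (hmax _ (mem_closedPoints.2 hM)).2 h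
      exact h1 ((Ideal.add_mem_iff_right M h2).1 hMm)
  obtain ⟨v, hv⟩ := hu.exists_right_inv
  refine ⟨(1 + a) * v, ?_, fun m hm => ?_⟩
  · show (1 + a) * v * ((1 + a) * v) = (1 + a) * v
    linear_combination ((1 + a) * v) * hv + (v * v) * hab
  · have hvm : v ∉ m.asIdeal := fun h => m.isPrime.ne_top ((Ideal.eq_top_iff_one _).2
      (hv ▸ m.asIdeal.mul_mem_left _ h))
    rcases hcases m hm with h | h
    · exact ⟨fun _ => h, fun _ h' => (m.isPrime.mem_or_mem h').elim ((hmax m hm).1 h).1 hvm⟩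
    · exact ⟨fun h' => absurd (m.asIdeal.mul_mem_right v ((hmax m hm).2 h).2) h',
        fun h' => absurd h (Set.disjoint_left.1 hd h')⟩

/-- The trace of a basic open on the closed points of a w-local spectrum is closed. -/
theorem isClosed_closedPoints_inter_basicOpen (hB : ProEtW.IsWLocal (PrimeSpectrum B)) (b : B) :
    IsClosed (ProEtW.closedPoints (PrimeSpectrum B) ∩ (basicOpen b : Set (PrimeSpectrum B))) := by
  obtain ⟨J, hJ⟩ := (isClosed_iff_zeroLocus_ideal _).1 hB.2.1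
  have hemb := isClosedEmbedding_comap_of_surjective (B ⧸ J) (Ideal.Quotient.mk J) Ideal.Quotient.mk_surjective
  have hrange : Set.range (comap (Ideal.Quotient.mk J)) = ProEtW.closedPoints (PrimeSpectrum B) := by
    rw [range_comap_of_surjective _ _ Ideal.Quotient.mk_surjective, Ideal.mk_ker]
    exact hJ.symm
  have hmax : ∀ p : PrimeSpectrum (B ⧸ J), p.asIdeal.IsMaximal := fun p => by
    have hm := mem_closedPoints.1 (hrange ▸ Set.mem_range_self p :
      comap (Ideal.Quotient.mk J) p ∈ ProEtW.closedPoints (PrimeSpectrum B))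
    have := (Ideal.map_eq_top_or_isMaximal_of_surjective (Ideal.Quotient.mk J) Ideal.Quotient.mk_surjective hm).resolve_left
    rw [comap_asIdeal, Ideal.map_comap_of_surjective _ Ideal.Quotient.mk_surjective] at this
    exact this p.isPrime.ne_top
  have : ProEtW.closedPoints (PrimeSpectrum B) ∩ (basicOpen b : Set (PrimeSpectrum B)) =
      comap (Ideal.Quotient.mk J) '' (basicOpen (Ideal.Quotient.mk J b) : Set (PrimeSpectrum (B ⧸ J))) := by
    rw [← hrange, Set.inter_comm, ← Set.image_preimage_eq_inter_range]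
    rfl
  rw [this]
  exact hemb.isClosedMap _ (isClopen_basicOpen hmax _).1

end GrothLib.WLocal
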