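import Groth.Agent.Lib.WLocal.Profinite
import Groth.Agent.Lib.WLocal.Idempotent

/-!
# Maps from rings of locally constant functions to rings with w-local spectrum
-/

set_option autoImplicit false

universe u

open PrimeSpectrum Topology

namespace GrothLib.WLocal

section LCMap

variable {A : Type u} [CommRing A] {T : Type u} [TopologicalSpace T] [CompactSpace T]
  {B : Type u} [CommRing B]

variable (hB : ProEtW.IsWLocal (PrimeSpectrum B))
  (ν : C(ProEtW.closedPoints (PrimeSpectrum B), T))

/-- The image in `T` of a maximal ideal. -/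
abbrev νm (m : Ideal B) (hm : m.IsMaximal) : T := ν ⟨⟨m, hm.isPrime⟩, mem_closedPoints.2 hm⟩

omit [CompactSpace T] in
include hB in
theorem exists_idem' (U : Set T) (hU : IsClopen U) :
    ∃ e : B, IsIdempotentElem e ∧ ∀ (m : Ideal B) (hm : m.IsMaximal), e ∉ m ↔ νm ν m hm ∈ U := by
  have hC : IsClosed (ProEtW.closedPoints (PrimeSpectrum B)) := hB.2.1
  obtain ⟨e, he, hiff⟩ := exists_idempotent hB
    (hC.isClosedEmbedding_subtypeVal.isClosedMap _ (hU.1.preimage ν.continuous))
    (hC.isClosedEmbedding_subtypeVal.isClosedMap _ (hU.compl.1.preimage ν.continuous))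
    (by rw [← Set.image_union, ← Set.preimage_union, Set.union_compl_self, Set.preimage_univ,
        Set.image_univ, Subtype.range_coe])
    ((Set.disjoint_image_iff Subtype.val_injective).2 (disjoint_compl_right.preimage ν))
  exact ⟨e, he, fun m hm => (hiff ⟨m, hm.isPrime⟩ (mem_closedPoints.2 hm)).trans
    ⟨fun ⟨y, hy, h⟩ => by
      have : y = ⟨⟨m, hm.isPrime⟩, mem_closedPoints.2 hm⟩ := Subtype.ext h
      subst this; exact hy,
      fun h => ⟨_, h, rfl⟩⟩⟩

/-- The idempotent of a clopen. -/
noncomputable def idem (U : Set T) (hU : IsClopen U) : B := (exists_idem' hB ν U hU).choose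

theorem isIdempotentElem_idem (U : Set T) (hU : IsClopen U) :
    IsIdempotentElem (idem hB ν U hU) := (exists_idem' hB ν U hU).choose_spec.1

theorem idem_notMem (U : Set T) (hU : IsClopen U) {m : Ideal B} (hm : m.IsMaximal) :
    idem hB ν U hU ∉ m ↔ νm ν m hm ∈ U :=
  (exists_idem' hB ν U hU).choose_spec.2 m hm

theorem idem_inter {U V : Set T} (hU : IsClopen U) (hV : IsClopen V) :
    idem hB ν (U ∩ V) (hU.inter hV) = idem hB ν U hU * idem hB ν V hV := by
  refine eq_of_forall_isMaximal (isIdempotentElem_idem hB ν _ _)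
    ((isIdempotentElem_idem hB ν _ _).mul (isIdempotentElem_idem hB ν _ _)) fun m hm => not_iff_not.1 ?_
  rw [hm.isPrime.mul_mem_iff_mem_or_mem, not_or, idem_notMem hB ν _ _ hm, idem_notMem hB ν _ _ hm,
    idem_notMem hB ν _ _ hm]
  rfl

theorem idem_univ : idem hB ν (Set.univ : Set T) isClopen_univ = 1 := by
  refine eq_of_forall_isMaximal (isIdempotentElem_idem hB ν _ _) IsIdempotentElem.one fun m hm =>
    not_iff_not.1 ?_
  rw [idem_notMem hB ν _ _ hm]
  exact iff_of_true (Set.mem_univ _) ((Ideal.ne_top_iff_one _).1 hm.ne_top)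

theorem idem_empty : idem hB ν (∅ : Set T) isClopen_empty = 0 := by
  refine eq_of_forall_isMaximal (isIdempotentElem_idem hB ν _ _) IsIdempotentElem.zero fun m hm =>
    not_iff_not.1 ?_
  rw [idem_notMem hB ν _ _ hm]
  exact iff_of_false id (fun h => h m.zero_mem)

variable [Algebra A B]

/-- The fibre idempotent. -/
noncomputable abbrev fibIdem (s : LC A T) (a : A) : B :=
  idem hB ν {t | s t = a} (s.isLocallyConstant.isClopen_fiber a)

theorem idem_mul_eq_zero {U V : Set T} (hU : IsClopen U) (hV : IsClopen V) (h : Disjoint U V) :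
    idem hB ν U hU * idem hB ν V hV = 0 := by
  rw [← idem_inter]
  convert idem_empty hB ν using 2
  exact Set.disjoint_iff_inter_eq_empty.1 h

theorem idem_sum_fibre {β : Type*} [DecidableEq β] (s : LocallyConstant T β) :
    ∑ a ∈ s.range_finite.toFinset, idem hB ν {t | s t = a} (s.isLocallyConstant.isClopen_fiber a) = 1 := by
  have hid : IsIdempotentElem
      (∑ a ∈ s.range_finite.toFinset, idem hB ν {t | s t = a} (s.isLocallyConstant.isClopen_fiber a)) := by
    show _ * _ = _
    rw [Finset.sum_mul_sum]
    refine Finset.sum_congr rfl fun a ha => ?_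
    rw [Finset.sum_eq_single_of_mem a ha fun b _ hb => ?_, (isIdempotentElem_idem hB ν _ _).eq]
    exact idem_mul_eq_zero hB ν _ _ (Set.disjoint_left.2 fun t h1 h2 => hb (h2.symm.trans h1))
  refine eq_of_forall_isMaximal hid IsIdempotentElem.one fun m hm => iff_of_false (fun h => ?_)
    ((Ideal.ne_top_iff_one _).1 hm.ne_top)
  let t := νm ν m hm
  have ha : s t ∈ s.range_finite.toFinset := (Set.Finite.mem_toFinset _).2 ⟨t, rfl⟩
  rw [← Finset.add_sum_erase _ _ ha] at h
  refine (idem_notMem hB ν _ _ hm).2 (show t ∈ {t' | s t' = s t} from rfl) ((Ideal.add_mem_iff_left m ?_).1 h)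
  refine Ideal.sum_mem _ fun b hb => by_contra fun hbm => ?_
  exact (Finset.ne_of_mem_erase hb) ((idem_notMem hB ν _ _ hm).1 hbm).symm

/-- Two elements agreeing on all fibres of a locally constant map are equal. -/
theorem ext_fibre {β : Type*} (f : LocallyConstant T β) {y z : B}
    (h : ∀ t : T, y * idem hB ν {t' | f t' = f t} (f.isLocallyConstant.isClopen_fiber _) =
      z * idem hB ν {t' | f t' = f t} (f.isLocallyConstant.isClopen_fiber _)) : y = z := by
  classical
  rw [← mul_one y, ← mul_one z, ← idem_sum_fibre hB ν f, Finset.mul_sum, Finset.mul_sum]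
  refine Finset.sum_congr rfl fun b hb => ?_
  obtain ⟨t, rfl⟩ := (Set.Finite.mem_toFinset _).1 hb
  exact h t

open scoped Classical in
/-- The underlying map of the universal map on locally constant functions. -/
noncomputable def toB (s : LC A T) : B :=
  ∑ a ∈ s.range_finite.toFinset, algebraMap A B a * fibIdem hB ν s a

theorem toB_mul_idem {s : LC A T} {U : Set T} (hU : IsClopen U) {a : A}
    (h : ∀ t ∈ U, s t = a) : toB hB ν s * idem hB ν U hU = algebraMap A B a * idem hB ν U hU := by
  classical
  rw [← mul_one (algebraMap A B a * idem hB ν U hU), ← idem_sum_fibre hB ν s, toB, Finset.sum_mul,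
    Finset.mul_sum]
  refine Finset.sum_congr rfl fun b _ => ?_
  by_cases hb : b = a
  · subst hb; ring
  · have : fibIdem hB ν s b * idem hB ν U hU = 0 :=
      idem_mul_eq_zero hB ν _ _ (Set.disjoint_left.2 fun t h1 h2 => hb (h1.symm.trans (h t h2)))
    linear_combination (algebraMap A B b - algebraMap A B a) * this

/-- The universal algebra map on locally constant functions. -/
noncomputable def toBAlg : LC A T →ₐ[A] B where
  toFun := toB hB ν
  map_one' := ext_fibre hB ν (1 : LC A T) fun t => by
    show toB hB ν 1 * _ = _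
    rw [toB_mul_idem hB ν _ (a := (1 : A)) fun _ _ => rfl, map_one]
  map_mul' x y := ext_fibre hB ν
      (LocallyConstant.mk (fun t => (x t, y t)) (x.isLocallyConstant.prodMk y.isLocallyConstant)) fun t => by
    have hx := toB_mul_idem hB ν (s := x) (U := {t' | (x t', y t') = (x t, y t)})
      ((x.isLocallyConstant.prodMk y.isLocallyConstant).isClopen_fiber _)
      fun t' h => congrArg Prod.fst h
    have hy := toB_mul_idem hB ν (s := y) (U := {t' | (x t', y t') = (x t, y t)})
      ((x.isLocallyConstant.prodMk y.isLocallyConstant).isClopen_fiber _)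
      fun t' h => congrArg Prod.snd h
    refine (toB_mul_idem hB ν _ (a := x t * y t) fun t' h => ?_).trans ?_
    · show x t' * y t' = _
      rw [show x t' = x t from congrArg Prod.fst h, show y t' = y t from congrArg Prod.snd h]
    · rw [map_mul]
      linear_combination (-(algebraMap A B (y t))) * hx - toB hB ν x * hy
  map_zero' := ext_fibre hB ν (0 : LC A T) fun t => by
    show toB hB ν 0 * _ = _
    rw [toB_mul_idem hB ν _ (a := (0 : A)) fun _ _ => rfl, map_zero]
  map_add' x y := ext_fibre hB ν
      (LocallyConstant.mk (fun t => (x t, y t)) (x.isLocallyConstant.prodMk y.isLocallyConstant)) fun t => by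
    have hx := toB_mul_idem hB ν (s := x) (U := {t' | (x t', y t') = (x t, y t)})
      ((x.isLocallyConstant.prodMk y.isLocallyConstant).isClopen_fiber _)
      fun t' h => congrArg Prod.fst h
    have hy := toB_mul_idem hB ν (s := y) (U := {t' | (x t', y t') = (x t, y t)})
      ((x.isLocallyConstant.prodMk y.isLocallyConstant).isClopen_fiber _)
      fun t' h => congrArg Prod.snd h
    refine (toB_mul_idem hB ν _ (a := x t + y t) fun t' h => ?_).trans ?_
    · show x t' + y t' = _
      rw [show x t' = x t from congrArg Prod.fst h, show y t' = y t from congrArg Prod.snd h]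
    · rw [map_add]
      linear_combination -hx - hy
  commutes' a := ext_fibre hB ν (0 : LC A T) fun t => by
    show toB hB ν (algebraMap A _ a) * _ = _
    exact toB_mul_idem hB ν _ fun _ _ => rfl

theorem toBAlg_charFn {U : Set T} (hU : IsClopen U) :
    toBAlg hB ν (LocallyConstant.charFn A hU) = idem hB ν U hU := by
  classical
  refine ext_fibre hB ν (LocallyConstant.charFn ℕ hU) fun t => ?_
  show toB hB ν _ * _ = _
  by_cases h : t ∈ U
  · have hmem : ∀ t', LocallyConstant.charFn ℕ hU t' = LocallyConstant.charFn ℕ hU t → t' ∈ U :=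
      fun t' h' => (LocallyConstant.charFn_eq_one ℕ t' hU).1
        (h'.trans ((LocallyConstant.charFn_eq_one ℕ t hU).2 h))
    rw [toB_mul_idem hB ν (U := {t' | LocallyConstant.charFn ℕ hU t' = LocallyConstant.charFn ℕ hU t}) _
      (a := 1) fun t' h' => charFn_of_mem A _ hU (hmem t' h'), map_one, one_mul,
      ← idem_inter]
    congr 1
    ext t'
    exact ⟨fun h' => ⟨hmem t' h', h'⟩, fun h' => h'.2⟩
  · have hnot : ∀ t', LocallyConstant.charFn ℕ hU t' = LocallyConstant.charFn ℕ hU t → t' ∉ U :=
      fun t' h' => (LocallyConstant.charFn_eq_zero ℕ t' hU).1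
        (h'.trans ((LocallyConstant.charFn_eq_zero ℕ t hU).2 h))
    rw [toB_mul_idem hB ν (U := {t' | LocallyConstant.charFn ℕ hU t' = LocallyConstant.charFn ℕ hU t}) _
      (a := 0) fun t' h' => charFn_of_notMem A _ hU (hnot t' h'), map_zero,
      zero_mul]
    exact (idem_mul_eq_zero hB ν hU _ (Set.disjoint_left.2 fun t' h1 h2 => hnot t' h2 h1)).symm

theorem isUnit_toBAlg {s : LC A T}
    (hs : ∀ (m : Ideal B) (hm : m.IsMaximal), s (νm ν m hm) ∉ m.comap (algebraMap A B)) :
    IsUnit (toBAlg hB ν s) := by
  by_contra hu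
  obtain ⟨m, hm, hsm⟩ := exists_max_ideal_of_mem_nonunits hu
  let t := νm ν m hm
  have h := toB_mul_idem hB ν (s := s) (U := {t' | s t' = s t}) (s.isLocallyConstant.isClopen_fiber _)
    fun _ h => h
  have hmem : algebraMap A B (s t) * fibIdem hB ν s (s t) ∈ m := h ▸ m.mul_mem_right _ hsm
  rcases hm.isPrime.mem_or_mem hmem with h' | h'
  · exact hs m hm h'
  · exact (idem_notMem hB ν _ _ hm).2 (show t ∈ {t' | s t' = s t} from rfl) h'

end LCMap

end GrothLib.WLocal
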