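import Groth.Agent.Lib.WLocal.Profinite
import Groth.Agent.Lib.WLocal.LCMap
import Groth.Agent.Lib.IndEt.Flat
import Mathlib.Topology.Spectral.ConstructibleTopology
import Mathlib.RingTheory.Flat.FaithfullyFlat.Algebra

/-!
# The w-localization of a ring
-/

set_option autoImplicit false

universe u

open PrimeSpectrum Topology

namespace GrothLib.WLocal

variable (A : Type u) [CommRing A]

/-- The prime spectrum with its constructible topology. -/
abbrev Cons : Type u := WithConstructibleTopology (PrimeSpectrum A)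

variable {A}

/-- The point of `Spec A` underlying a point of `Cons A`. -/
abbrev Cons.val (t : Cons A) : PrimeSpectrum A := t.ofTopology

/-- A point of `Cons A` from a point of `Spec A`. -/
abbrev Cons.mk (x : PrimeSpectrum A) : Cons A := WithTopology.toTopology _ x

theorem Cons.isClopen_basicOpen (a : A) : IsClopen {t : Cons A | a ∉ t.val.asIdeal} := by
  refine ⟨isOpen_compl_iff.1 ?_, ?_⟩ <;> rw [WithConstructibleTopology.isOpen_iff]
  · show IsOpen[constructibleTopology (PrimeSpectrum A)] ((basicOpen a : Set (PrimeSpectrum A))ᶜ)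
    exact IsCompact.isOpen_constructibleTopology_of_isClosed
      (by rw [compl_compl]; exact isCompact_basicOpen a) (basicOpen a).2.isClosed_compl
  · show IsOpen[constructibleTopology (PrimeSpectrum A)] (basicOpen a : Set (PrimeSpectrum A))
    exact (isCompact_basicOpen a).isOpen_constructibleTopology_of_isOpen (basicOpen a).2

instance : TotallySeparatedSpace (Cons A) := by
  refine totallySeparatedSpace_iff_exists_isClopen.2 fun t t' hne => ?_
  have : t.val ≠ t'.val := fun h => hne (by simpa using congrArg Cons.mk h)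
  obtain ⟨a, ha⟩ : ∃ a, ¬ (a ∈ t.val.asIdeal ↔ a ∈ t'.val.asIdeal) := by
    by_contra h
    push Not at h
    exact this (PrimeSpectrum.ext (SetLike.ext h))
  by_cases h : a ∈ t.val.asIdeal
  · exact ⟨_, (Cons.isClopen_basicOpen a).compl, not_not.2 h, fun h' => h' fun h2 => ha (iff_of_true h h2)⟩
  · exact ⟨_, Cons.isClopen_basicOpen a, h, fun h' => ha (iff_of_false h h')⟩

variable (A)

/-- Functions nowhere vanishing at their index. -/
def wSubmonoid : Submonoid (LC A (Cons A)) where
  carrier := {s | ∀ t : Cons A, s t ∉ t.val.asIdeal}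
  one_mem' := fun t h => t.val.isPrime.ne_top ((Ideal.eq_top_iff_one _).2 h)
  mul_mem' := fun ha hb t h => (t.val.isPrime.mem_or_mem h).elim (ha t) (hb t)

/-- The w-localization. -/
abbrev WLoc : Type u := Localization (wSubmonoid A)

theorem isIndZariski_wLoc : EtPBC.IsIndZariski A (WLoc A) :=
  IndEt.isIndZariski_trans (isIndLoc A (Cons A)).isIndZariski
    (IndEt.isIndLoc_of_isLocalization (wSubmonoid A))

/-- The map `Spec (WLoc A) → Spec A × Cons A`. -/
noncomputable def coord (q : PrimeSpectrum (WLoc A)) : PrimeSpectrum A × Cons A :=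
  (specHomeo A (Cons A)).symm (comap (algebraMap (LC A (Cons A)) (WLoc A)) q)

theorem isEmbedding_coord : IsEmbedding (coord A) :=
  (specHomeo A (Cons A)).symm.isEmbedding.comp
    (localization_comap_isEmbedding (WLoc A) (wSubmonoid A))

theorem pt_coord (q : PrimeSpectrum (WLoc A)) :
    pt A (Cons A) (coord A q) = comap (algebraMap (LC A (Cons A)) (WLoc A)) q :=
  (specHomeo A (Cons A)).apply_symm_apply _

theorem coord_fst (q : PrimeSpectrum (WLoc A)) :
    (coord A q).1 = comap (algebraMap A (WLoc A)) q := by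
  rw [IsScalarTower.algebraMap_eq A (LC A (Cons A)) (WLoc A), comap_comp_apply, ← pt_coord]
  rfl

theorem range_coord : Set.range (coord A) = {p | p.1 ⤳ p.2.val} := by
  classical
  ext p
  constructor
  · rintro ⟨q, rfl⟩
    refine (le_iff_specializes _ _).1 fun a ha => ?_
    by_contra hat
    let s : LC A (Cons A) :=
      algebraMap A _ a * LocallyConstant.charFn A (Cons.isClopen_basicOpen a) +
        (1 - LocallyConstant.charFn A (Cons.isClopen_basicOpen a))
    have hs : ∀ t : Cons A, (a ∉ t.val.asIdeal → s t = a) ∧ (a ∈ t.val.asIdeal → s t = 1) := fun t => by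
      constructor <;> intro h
      · show a * LocallyConstant.charFn A (Cons.isClopen_basicOpen a) t +
          (1 - LocallyConstant.charFn A (Cons.isClopen_basicOpen a) t) = a
        rw [charFn_of_mem A _ (Cons.isClopen_basicOpen a) h, mul_one, sub_self, add_zero]
      · show a * LocallyConstant.charFn A (Cons.isClopen_basicOpen a) t +
          (1 - LocallyConstant.charFn A (Cons.isClopen_basicOpen a) t) = 1
        rw [charFn_of_notMem A _ (Cons.isClopen_basicOpen a) (fun h' => h' h), mul_zero, sub_zero, zero_add]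
    have hmem : s ∈ wSubmonoid A := fun t => by
      by_cases h : a ∈ t.val.asIdeal
      · rw [(hs t).2 h]; exact fun h1 => t.val.isPrime.ne_top ((Ideal.eq_top_iff_one _).2 h1)
      · rw [(hs t).1 h]; exact h
    have hd : comap (algebraMap (LC A (Cons A)) (WLoc A)) q ∈
        {p : PrimeSpectrum (LC A (Cons A)) | Disjoint (wSubmonoid A : Set (LC A (Cons A))) p.asIdeal} :=
      localization_comap_range (WLoc A) (wSubmonoid A) ▸ Set.mem_range_self q
    rw [← pt_coord] at hd
    refine Set.disjoint_left.1 hd hmem ?_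
    show s (coord A q).2 ∈ (coord A q).1.asIdeal
    rw [(hs _).1 hat]
    exact ha
  · intro hp
    have : pt A (Cons A) p ∈ Set.range (comap (algebraMap (LC A (Cons A)) (WLoc A))) := by
      rw [localization_comap_range (WLoc A) (wSubmonoid A)]
      exact Set.disjoint_left.2 fun s hs h => hs p.2 ((le_iff_specializes _ _).2 hp h)
    obtain ⟨q, hq⟩ := this
    refine ⟨q, ?_⟩
    rw [coord, hq, ← specHomeo_apply, Homeomorph.symm_apply_apply]

theorem coord_specializes (q : PrimeSpectrum (WLoc A)) : (coord A q).1 ⤳ (coord A q).2.val :=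
  (range_coord A).le (Set.mem_range_self q)

theorem specializes_iff_coord {q q' : PrimeSpectrum (WLoc A)} :
    q ⤳ q' ↔ (coord A q).1 ⤳ (coord A q').1 ∧ (coord A q).2 = (coord A q').2 := by
  rw [← (isEmbedding_coord A).isInducing.specializes_iff,
    show coord A q = ((coord A q).1, (coord A q).2) from rfl,
    show coord A q' = ((coord A q').1, (coord A q').2) from rfl, specializes_prod,
    specializes_iff_eq (x := (coord A q).2) (y := (coord A q').2)]

/-- The closed point lying over a point of `Spec A`. -/
theorem exists_diag (t : Cons A) : ∃ q, coord A q = (t.val, t) :=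
  show (t.val, t) ∈ Set.range (coord A) by rw [range_coord]; exact specializes_rfl

theorem isClosed_singleton_wLoc_iff {q : PrimeSpectrum (WLoc A)} :
    IsClosed ({q} : Set (PrimeSpectrum (WLoc A))) ↔ (coord A q).1 = (coord A q).2.val := by
  have hq : (coord A q).1 ⤳ (coord A q).2.val := coord_specializes A q
  constructor
  · intro h
    obtain ⟨q', hq'⟩ := exists_diag A (coord A q).2
    have hsp : q ⤳ q' := (specializes_iff_coord A).2 (by rw [hq']; exact ⟨hq, rfl⟩)
    have : q' = q := hsp.mem_closed h rfl
    rw [this] at hq'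
    exact congrArg Prod.fst hq'
  · intro h
    refine closure_subset_iff_isClosed.1 fun z hz => ?_
    obtain ⟨h1, h2⟩ := (specializes_iff_coord A).1 (specializes_iff_mem_closure.2 hz)
    refine (isEmbedding_coord A).injective (Prod.ext ?_ h2.symm)
    have h3 : (coord A z).1 ⤳ (coord A z).2.val := coord_specializes A z
    rw [← h2, ← h] at h3
    exact (h3.antisymm h1).eq

theorem isWLocal_wLoc : ProEtW.IsWLocal (PrimeSpectrum (WLoc A)) := by
  refine ⟨inferInstance, ?_, fun q => ?_⟩
  · rw [show {q : PrimeSpectrum (WLoc A) | IsClosed ({q} : Set (PrimeSpectrum (WLoc A)))} =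
      coord A ⁻¹' {p | p.2.val ⤳ p.1} from Set.ext fun q => by
        rw [Set.mem_setOf_eq, isClosed_singleton_wLoc_iff]
        have hq : (coord A q).1 ⤳ (coord A q).2.val := coord_specializes A q
        exact ⟨fun h => specializes_of_eq h.symm, fun h => (hq.antisymm h).eq⟩]
    refine IsClosed.preimage (isEmbedding_coord A).continuous ?_
    rw [← isOpen_compl_iff]
    refine isOpen_iff_forall_mem_open.2 fun p hp => ?_
    obtain ⟨a, hat, hax⟩ : ∃ a, a ∈ p.2.val.asIdeal ∧ a ∉ p.1.asIdeal := by
      by_contra h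
      push Not at h
      exact hp ((le_iff_specializes _ _).1 h)
    refine ⟨(basicOpen a : Set (PrimeSpectrum A)) ×ˢ {t : Cons A | a ∈ t.val.asIdeal}, ?_,
      (basicOpen a).2.prod ?_, hax, hat⟩
    · rintro ⟨x, t⟩ ⟨hx, ht⟩ hsp
      exact hx ((le_iff_specializes _ _).2 hsp ht)
    · simpa [Set.compl_setOf] using (Cons.isClopen_basicOpen a).compl.2
  · obtain ⟨c, hc⟩ := exists_diag A (coord A q).2
    have hq : (coord A q).1 ⤳ (coord A q).2.val := coord_specializes A q
    refine ⟨c, ⟨(isClosed_singleton_wLoc_iff A).2 (by rw [hc]),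
      (specializes_iff_coord A).2 (by rw [hc]; exact ⟨hq, rfl⟩)⟩, fun d ⟨hd, hqd⟩ => ?_⟩
    obtain ⟨-, h2⟩ := (specializes_iff_coord A).1 hqd
    refine (isEmbedding_coord A).injective ?_
    rw [hc]
    exact Prod.ext (((isClosed_singleton_wLoc_iff A).1 hd).trans (congrArg Cons.val h2.symm)) h2.symm

theorem bijOn_closedPoints :
    Set.BijOn (comap (algebraMap A (WLoc A))) (ProEtW.closedPoints (PrimeSpectrum (WLoc A))) Set.univ := by
  refine ⟨Set.mapsTo_univ _ _, fun q hq q' hq' h => ?_, fun x _ => ?_⟩
  · have h1 := (isClosed_singleton_wLoc_iff A).1 hq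
    have h2 := (isClosed_singleton_wLoc_iff A).1 hq'
    rw [← coord_fst, ← coord_fst] at h
    refine (isEmbedding_coord A).injective (Prod.ext h ?_)
    have : (coord A q).2.val = (coord A q').2.val := h1.symm.trans (h.trans h2)
    simpa using congrArg Cons.mk this
  · obtain ⟨q, hq⟩ := exists_diag A (Cons.mk x)
    exact ⟨q, (isClosed_singleton_wLoc_iff A).2 (by rw [hq]), by rw [← coord_fst, hq]⟩

theorem faithfullyFlat_wLoc : Module.FaithfullyFlat A (WLoc A) := by
  haveI := IndEt.flat (IndEt.isIndEtale_of_isIndZariski (isIndZariski_wLoc A))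
  refine Module.FaithfullyFlat.of_comap_surjective fun x => ?_
  obtain ⟨q, -, hq⟩ := (bijOn_closedPoints A).surjOn (Set.mem_univ x)
  exact ⟨q, hq⟩

section Universal

variable {A} {B : Type u} [CommRing B] [Algebra A B]

theorem continuous_consMap (hB : ProEtW.IsWLocal (PrimeSpectrum B)) :
    Continuous (fun m : ProEtW.closedPoints (PrimeSpectrum B) =>
      Cons.mk (comap (algebraMap A B) m.1)) := by
  let C := ProEtW.closedPoints (PrimeSpectrum B)
  have hC : IsClosed C := hB.2.1
  let ν : C → Cons A := fun m => Cons.mk (comap (algebraMap A B) m.1)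
  have hbasic : ∀ a : A, IsClopen ((fun m : C => comap (algebraMap A B) m.1) ⁻¹' (basicOpen a : Set (PrimeSpectrum A))) := by
    intro a
    refine ⟨?_, (basicOpen a).2.preimage ((continuous_comap _).comp continuous_subtype_val)⟩
    have := (isClosed_closedPoints_inter_basicOpen hB (algebraMap A B a)).preimage
      (continuous_subtype_val (p := (· ∈ C)))
    convert this using 1
    ext m
    exact ⟨fun h => ⟨m.2, h⟩, fun h => h.2⟩
  have key : ∀ s : Set (PrimeSpectrum A), IsOpen s → IsCompact s →
      IsClopen ((fun m : C => comap (algebraMap A B) m.1) ⁻¹' s) := by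
    intro s ho hc
    have hex : ∀ x : s, ∃ a : A, (x : PrimeSpectrum A) ∈ (basicOpen a : Set (PrimeSpectrum A)) ∧
        (basicOpen a : Set (PrimeSpectrum A)) ⊆ s := fun x => by
      obtain ⟨_, ⟨a, rfl⟩, hx, hsub⟩ := isTopologicalBasis_basic_opens.exists_subset_of_mem_open x.2 ho
      exact ⟨a, hx, hsub⟩
    choose a ha has using hex
    obtain ⟨F, hF⟩ := hc.elim_finite_subcover (fun x : s => (basicOpen (a x) : Set (PrimeSpectrum A)))
      (fun x => (basicOpen _).2) (fun x hx => Set.mem_iUnion.2 ⟨⟨x, hx⟩, ha ⟨x, hx⟩⟩)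
    rw [Set.Subset.antisymm hF (Set.iUnion₂_subset fun x _ => has x), Set.preimage_iUnion₂]
    exact F.finite_toSet.isClopen_biUnion fun x _ => hbasic _
  have hν : Continuous ν := by
    refine continuous_def.2 fun W hW => ?_
    rw [WithConstructibleTopology.isOpen_iff] at hW
    show IsOpen ((fun m : C => comap (algebraMap A B) m.1) ⁻¹' (WithTopology.toTopology _ ⁻¹' W))
    revert hW
    generalize WithTopology.toTopology (constructibleTopology (PrimeSpectrum A)) ⁻¹' W = W'
    intro hW
    induction hW with
    | basic s hs =>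
      rcases hs with ⟨ho, hc⟩ | ⟨hs, hc⟩
      · exact (key s ho hc).2
      · simpa using (key sᶜ hs.isOpen_compl hc).compl.2
    | univ => simp
    | inter s t _ _ ih ih' => exact ih.inter ih'
    | sUnion S _ ih =>
      rw [Set.preimage_sUnion]
      exact isOpen_biUnion fun s hs => ih s hs
  exact hν

variable (hB : ProEtW.IsWLocal (PrimeSpectrum B))

/-- The map from closed points to `Cons A`. -/
noncomputable def consMap : C(ProEtW.closedPoints (PrimeSpectrum B), Cons A) :=
  ⟨_, continuous_consMap hB⟩

include hB in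
theorem existsUnique_wLocalMap :
    ∃! φ : WLoc A →ₐ[A] B, ProEtW.IsWLocalMap (comap φ.toRingHom) := by
  classical
  let φ : WLoc A →ₐ[A] B :=
    IsLocalization.liftAlgHom (M := wSubmonoid A) (f := toBAlg hB (consMap hB))
      fun y => isUnit_toBAlg hB (consMap hB) fun m hm => y.2 (νm (consMap hB) m hm)
  have hφ : ∀ s, φ (algebraMap (LC A (Cons A)) (WLoc A) s) = toBAlg hB (consMap hB) s := fun s => by
    show IsLocalization.liftAlgHom _ _ = _
    rw [IsLocalization.liftAlgHom_apply, IsLocalization.lift_eq]
    rfl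
  have hspec : ∀ ψ : WLoc A →ₐ[A] B, IsSpectralMap (comap ψ.toRingHom) := fun ψ => by
    refine ⟨continuous_comap _, fun s ho hc => ?_⟩
    have hex : ∀ x : s, ∃ a : WLoc A, (x : PrimeSpectrum (WLoc A)) ∈ (basicOpen a : Set _) ∧
        (basicOpen a : Set (PrimeSpectrum (WLoc A))) ⊆ s := fun x => by
      obtain ⟨_, ⟨a, rfl⟩, hx, hsub⟩ := isTopologicalBasis_basic_opens.exists_subset_of_mem_open x.2 ho
      exact ⟨a, hx, hsub⟩
    choose a ha has using hex
    obtain ⟨F, hF⟩ := hc.elim_finite_subcover (fun x : s => (basicOpen (a x) : Set (PrimeSpectrum (WLoc A))))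
      (fun x => (basicOpen _).2) (fun x hx => Set.mem_iUnion.2 ⟨⟨x, hx⟩, ha ⟨x, hx⟩⟩)
    rw [Set.Subset.antisymm hF (Set.iUnion₂_subset fun x _ => has x), Set.preimage_iUnion₂]
    exact F.isCompact_biUnion fun x _ => isCompact_basicOpen _
  have hcoord : ∀ (ψ : WLoc A →ₐ[A] B) (m : PrimeSpectrum B),
      (coord A (comap ψ.toRingHom m)).1 = comap (algebraMap A B) m := fun ψ m => by
    rw [coord_fst, ← comap_comp_apply]
    exact congrArg (fun f => comap f m) ψ.comp_algebraMap
  refine ⟨φ, ⟨hspec φ, fun m hm => (isClosed_singleton_wLoc_iff A).2 ?_⟩, fun ψ hψ => ?_⟩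
  · have hmax := mem_closedPoints.1 hm
    rw [hcoord]
    by_contra hne
    have hne' : (coord A (comap φ.toRingHom m)).2 ≠ Cons.mk (comap (algebraMap A B) m) :=
      fun h => hne (congrArg Cons.val h).symm
    obtain ⟨U, hU, h1, h2⟩ := exists_isClopen_of_totally_separated hne'
    have key : LocallyConstant.charFn A hU ∈ (pt A (Cons A) (coord A (comap φ.toRingHom m))).asIdeal ↔
        idem hB (consMap (A := A) hB) U hU ∈ m.asIdeal := by
      rw [pt_coord, ← toBAlg_charFn (A := A) hB (consMap (A := A) hB) hU, ← hφ]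
      rfl
    rw [mem_pt, charFn_of_mem A _ hU h1] at key
    exact (coord A (comap φ.toRingHom m)).1.isPrime.ne_top ((Ideal.eq_top_iff_one _).2
      (key.2 (not_not.1 fun h => h2 ((idem_notMem hB (consMap (A := A) hB) U hU hmax).1 h))))
  · refine (IsLocalization.algHom_ext (wSubmonoid A) ?_)
    refine AlgHom.ext fun s => ?_
    show ψ (algebraMap _ _ s) = φ (algebraMap _ _ s)
    rw [hφ]
    have hchar : ∀ (U : Set (Cons A)) (hU : IsClopen U),
        ψ (algebraMap _ (WLoc A) (LocallyConstant.charFn A hU)) = idem hB (consMap (A := A) hB) U hU := by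
      intro U hU
      refine eq_of_forall_isMaximal ?_ (isIdempotentElem_idem hB (consMap (A := A) hB) U hU) fun m hm => ?_
      · refine IsIdempotentElem.map (IsIdempotentElem.map (f := algebraMap _ (WLoc A)) ?_) (f := ψ)
        refine LocallyConstant.ext fun t => ?_
        show LocallyConstant.charFn A hU t * LocallyConstant.charFn A hU t = _
        by_cases h : t ∈ U
        · rw [charFn_of_mem A _ hU h, mul_one]
        · rw [charFn_of_notMem A _ hU h, mul_zero]
      · have hcl := (isClosed_singleton_wLoc_iff A).1 (hψ.2 ⟨m, hm.isPrime⟩ (mem_closedPoints.2 hm))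
        rw [hcoord] at hcl
        have hco2 : (coord A (comap ψ.toRingHom ⟨m, hm.isPrime⟩)).2 =
            Cons.mk (comap (algebraMap A B) ⟨m, hm.isPrime⟩) := by simp [hcl]
        have : ψ (algebraMap _ (WLoc A) (LocallyConstant.charFn A hU)) ∈ m ↔
            LocallyConstant.charFn A hU (coord A (comap ψ.toRingHom ⟨m, hm.isPrime⟩)).2 ∈
              (coord A (comap ψ.toRingHom ⟨m, hm.isPrime⟩)).1.asIdeal := by
          rw [← mem_pt, pt_coord]; rfl
        rw [this, hcoord, hco2]
        by_cases h : Cons.mk (comap (algebraMap A B) ⟨m, hm.isPrime⟩) ∈ U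
        · rw [charFn_of_mem A _ hU h]
          exact iff_of_false (fun h1 => (comap (algebraMap A B) (⟨m, hm.isPrime⟩ : PrimeSpectrum B)).isPrime.ne_top
            ((Ideal.eq_top_iff_one _).2 h1)) ((idem_notMem hB (consMap (A := A) hB) U hU hm).2 h)
        · rw [charFn_of_notMem A _ hU h]
          exact iff_of_true (Ideal.zero_mem _) (not_not.1 fun h1 => h ((idem_notMem hB (consMap (A := A) hB) U hU hm).1 h1))
    refine ext_fibre hB (consMap (A := A) hB) s fun t => ?_
    let U : Set (Cons A) := {t' | s t' = s t}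
    have hU : IsClopen U := s.isLocallyConstant.isClopen_fiber _
    show _ = toB hB (consMap (A := A) hB) s * _
    rw [toB_mul_idem hB (consMap (A := A) hB) (s := s) hU fun _ h => h, ← hchar U hU,
      ← (AlgHom.commutes (ψ.comp (IsScalarTower.toAlgHom A (LC A (Cons A)) (WLoc A))) (s t))]
    simp only [AlgHom.comp_apply, IsScalarTower.coe_toAlgHom', ← map_mul]
    congr 2
    refine LocallyConstant.ext fun t' => ?_
    show s t' * LocallyConstant.charFn A hU t' = s t * LocallyConstant.charFn A hU t'
    by_cases h : t' ∈ U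
    · rw [show s t' = s t from h]
    · rw [charFn_of_notMem A _ hU h, mul_zero, mul_zero]

end Universal

end GrothLib.WLocal
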