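import Groth.Agent.Lib.WLocal.Pull
import Groth.Agent.Lib.WLocal.Localization
import Mathlib.Topology.ExtremallyDisconnected

/-!
# w-local covers with extremally disconnected space of components
-/

set_option autoImplicit false

universe u

open PrimeSpectrum Topology

namespace GrothLib.WLocal

/-- A copy of a type with the discrete topology. -/
def Discr (X : Type u) : Type u := X

instance (X : Type u) : TopologicalSpace (Discr X) := ⊥

instance (X : Type u) : DiscreteTopology (Discr X) := ⟨rfl⟩

/-- Every compact Hausdorff space is a continuous image of an extremally disconnected one. -/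
theorem exists_extrDisc_surj (X : Type u) [TopologicalSpace X] [CompactSpace X] [T2Space X] :
    ∃ g : C(StoneCech (Discr X), X), Function.Surjective g := by
  let f : Discr X → X := fun x => x
  have hf : Continuous f := continuous_of_discreteTopology
  exact ⟨⟨_, continuous_stoneCechExtend hf⟩,
    fun x => ⟨stoneCechUnit (α := Discr X) x, stoneCechExtend_stoneCechUnit hf _⟩⟩

theorem extremallyDisconnected_stoneCech (X : Type u) : ExtremallyDisconnected (StoneCech (Discr X)) :=
  CompactT2.Projective.extremallyDisconnected StoneCech.projective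

theorem exists_indZariski_wLocal_extrDisc (A : Type u) [CommRing A] :
    ∃ (B : Type u) (_ : CommRing B) (_ : Algebra A B),
      Module.FaithfullyFlat A B ∧ EtPBC.IsIndZariski A B ∧ ProEtW.IsWLocal (PrimeSpectrum B) ∧
        ExtremallyDisconnected (ConnectedComponents (PrimeSpectrum B)) := by
  let A' := WLoc A
  haveI := (isWLocal_wLoc A).1
  obtain ⟨g, hg⟩ := exists_extrDisc_surj (ConnectedComponents (PrimeSpectrum A'))
  haveI := extremallyDisconnected_stoneCech (ConnectedComponents (PrimeSpectrum A'))
  haveI : IsScalarTower A A' (LC A' (StoneCech (Discr (ConnectedComponents (PrimeSpectrum A'))))) :=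
    ⟨fun a x f => LocallyConstant.ext fun t => smul_assoc a x (f t)⟩
  haveI : IsScalarTower A A' (PullRing g) := IsScalarTower.of_algebraMap_eq fun x => by
    let T := StoneCech (Discr (ConnectedComponents (PrimeSpectrum A')))
    show algebraMap A (PullRing g) x = algebraMap A' (PullRing g) (algebraMap A A' x)
    rw [IsScalarTower.algebraMap_apply A (LC A' T) (PullRing g) x,
      IsScalarTower.algebraMap_apply A' (LC A' T) (PullRing g) (algebraMap A A' x),
      ← IsScalarTower.algebraMap_apply A A' (LC A' T) x]
  have hiz : EtPBC.IsIndZariski A (PullRing g) :=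
    IndEt.isIndZariski_trans (IndEt.isIndZariski_trans (isIndZariski_wLoc A) (isIndLoc A' _))
      (isIndLoc_pullRing g)
  obtain ⟨e, -⟩ := exists_components_pullRing g
  refine ⟨PullRing g, inferInstance, inferInstance, ?_, hiz, isWLocal_pullRing g (isWLocal_wLoc A),
    extremallyDisconnected_of_homeo e.symm⟩
  haveI := IndEt.flat (IndEt.isIndEtale_of_isIndZariski hiz)
  refine Module.FaithfullyFlat.of_comap_surjective fun x => ?_
  haveI := faithfullyFlat_wLoc A
  obtain ⟨y, rfl⟩ := PrimeSpectrum.comap_surjective_of_faithfullyFlat (A := A) (B := A') x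
  obtain ⟨t, ht⟩ := hg (ConnectedComponents.mk y)
  refine ⟨(pullHomeo g).symm ⟨(y, t), ht.symm⟩, ?_⟩
  rw [IsScalarTower.algebraMap_eq A A' (PullRing g), comap_comp_apply, ← pullHomeo_fst,
    Homeomorph.apply_symm_apply]

end GrothLib.WLocal
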