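import Groth.Agent.Lib.WLocal.Square
import Groth.Agent.Lib.WLocal.ExtrDisc

/-!
# Every ring has a faithfully flat weakly étale w-contractible extension
-/

set_option autoImplicit false

universe u

open PrimeSpectrum

namespace GrothLib.WLocal

theorem exists_wContractible_cover (A : Type u) [CommRing A] :
    ∃ (C : Type u) (_ : CommRing C) (_ : Algebra A C),
      Module.FaithfullyFlat A C ∧ EtPBC.IsIndEtale A C ∧ EtPBC.IsWContractible C := by
  obtain ⟨C0, _, _, hff, hie, hwl, -, hsh⟩ := exists_strict_wLocal A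
  haveI := hwl.1
  obtain ⟨g, hg⟩ := exists_extrDisc_surj (ConnectedComponents (PrimeSpectrum C0))
  haveI := extremallyDisconnected_stoneCech (ConnectedComponents (PrimeSpectrum C0))
  have hiz : EtPBC.IsIndZariski C0 (PullRing g) :=
    IndEt.isIndZariski_trans (IndEt.IsIndLoc.isIndZariski (isIndLoc C0 _)) (isIndLoc_pullRing g)
  haveI : IsScalarTower A C0 (LC C0 (StoneCech (Discr (ConnectedComponents (PrimeSpectrum C0))))) :=
    ⟨fun a x f => LocallyConstant.ext fun t => smul_assoc a x (f t)⟩
  haveI : IsScalarTower A C0 (PullRing g) := IsScalarTower.of_algebraMap_eq fun x => by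
    let T := StoneCech (Discr (ConnectedComponents (PrimeSpectrum C0)))
    show algebraMap A (PullRing g) x = algebraMap C0 (PullRing g) (algebraMap A C0 x)
    rw [IsScalarTower.algebraMap_apply A (LC C0 T) (PullRing g) x,
      IsScalarTower.algebraMap_apply C0 (LC C0 T) (PullRing g) (algebraMap A C0 x),
      ← IsScalarTower.algebraMap_apply A C0 (LC C0 T) x]
  have hieC : EtPBC.IsIndEtale A (PullRing g) :=
    IndEt.isIndEtale_trans hie (IndEt.isIndEtale_of_isIndZariski hiz)
  obtain ⟨e, -⟩ := exists_components_pullRing g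
  haveI := IndEt.flat hieC
  refine ⟨PullRing g, inferInstance, inferInstance,
    Module.FaithfullyFlat.of_comap_surjective fun x => ?_, hieC,
    isWContractible_of_conditions (isWLocal_pullRing g hwl) (extremallyDisconnected_of_homeo e.symm)
      fun n hn => ?_⟩
  · obtain ⟨y, rfl⟩ := PrimeSpectrum.comap_surjective_of_faithfullyFlat (A := A) (B := C0) x
    obtain ⟨t, ht⟩ := hg (ConnectedComponents.mk y)
    refine ⟨(pullHomeo g).symm ⟨(y, t), ht.symm⟩, ?_⟩
    rw [IsScalarTower.algebraMap_eq A C0 (PullRing g), comap_comp_apply, ← pullHomeo_fst,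
      Homeomorph.apply_symm_apply]
  · haveI : (n.comap (algebraMap C0 (PullRing g))).IsMaximal :=
      mem_closedPoints.1 ((isWLocalMap_pullRing g hwl).2 ⟨n, hn.isPrime⟩ (mem_closedPoints.2 hn))
    exact strictlyHenselian_of_ringEquiv
      (RingEquiv.ofBijective _ (IndEt.identifiesLocalRings_of_isIndZariski hiz ⟨n, hn.isPrime⟩))
      (hsh _)

end GrothLib.WLocal
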