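import Groth.Agent.Lib.WLocal.Contractible
import Groth.Agent.Lib.WLocal.Square
import Groth.Agent.Lib.Hensel.LocalSplit
import Mathlib.FieldTheory.PurelyInseparable.Basic
import Mathlib.RingTheory.Kaehler.Basic
import Mathlib.RingTheory.Spectrum.Prime.Chevalley
import Mathlib.RingTheory.Localization.Finiteness
import Mathlib.RingTheory.QuasiFinite.Basic

/-!
# Finite extensions of w-contractible rings
-/

set_option autoImplicit false

universe u

open PrimeSpectrum Topology TensorProduct

namespace GrothLib.WLocal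

theorem extremallyDisconnected_of_isOpenMap_locallyInjective {X Y : Type u} [TopologicalSpace X]
    [TopologicalSpace Y] [CompactSpace X] [T2Space X] [CompactSpace Y] [T2Space Y]
    [ExtremallyDisconnected Y] {f : X → Y} (hc : Continuous f) (ho : IsOpenMap f)
    (hinj : ∀ x, ∃ V : Set X, IsOpen V ∧ x ∈ V ∧ Set.InjOn f V) : ExtremallyDisconnected X where
  open_closure U hU := by
    refine isOpen_iff_forall_mem_open.2 fun x hx => ?_
    obtain ⟨V, hV, hxV, hVinj⟩ := hinj x
    obtain ⟨W, hW, hWc, hWV⟩ := exists_mem_nhds_isClosed_subset (hV.mem_nhds hxV)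
    obtain ⟨V', hV'W, hV', hxV'⟩ := mem_nhds_iff.1 hW
    have hx' : x ∈ closure (U ∩ V') := by
      rw [Set.inter_comm]
      exact hV'.inter_closure ⟨hxV', hx⟩
    have himg : closure (f '' (U ∩ V')) ⊆ f '' closure (U ∩ V') :=
      closure_minimal (Set.image_mono subset_closure) (isClosed_closure.isCompact.image hc).isClosed
    refine ⟨V' ∩ f ⁻¹' closure (f '' (U ∩ V')), fun y hy => ?_,
      hV'.inter ((ExtremallyDisconnected.open_closure _ (ho _ (hU.inter hV'))).preimage hc),
      hxV', image_closure_subset_closure_image hc ⟨x, hx', rfl⟩⟩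
    obtain ⟨z, hz, hzy⟩ := himg hy.2
    have hzV : z ∈ V := hWV (hWc.closure_subset_iff.2 (Set.inter_subset_right.trans hV'W) hz)
    exact closure_mono Set.inter_subset_left (hVinj hzV (hWV (hV'W hy.1)) hzy ▸ hz)

theorem isSepClosed_of_ringEquiv {K L : Type u} [Field K] [Field L] (e : K ≃+* L) [IsSepClosed K] :
    IsSepClosed L := by
  refine IsSepClosed.of_exists_root _ fun p hp hirr hsep => ?_
  obtain ⟨x, hx⟩ := IsSepClosed.exists_root (p.map e.symm.toRingHom)
    (by rw [Polynomial.degree_map]; exact hirr.degree_pos.ne') hsep.map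
  refine ⟨e x, ?_⟩
  have := congrArg e.toRingHom hx.eq_zero
  rwa [map_zero, Polynomial.eval_map, Polynomial.hom_eval₂,
    show (e.toRingHom).comp e.symm.toRingHom = RingHom.id _ from RingHom.ext fun y => e.apply_symm_apply y,
    Polynomial.eval₂_id] at this

section Spec

variable (R S : Type u) [CommRing R] [CommRing S] [Algebra R S]

theorem isMaximal_of_integral_quotient (hR : ∀ p : PrimeSpectrum R, p.asIdeal.IsMaximal)
    (hint : ∀ q : PrimeSpectrum S, Algebra.IsIntegral R (S ⧸ q.asIdeal)) (q : PrimeSpectrum S) :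
    q.asIdeal.IsMaximal := by
  haveI := hint q
  haveI : (q.asIdeal.comap (algebraMap R S)).IsMaximal := hR (comap (algebraMap R S) q)
  have hcomap : (⊥ : Ideal (S ⧸ q.asIdeal)).comap (algebraMap R (S ⧸ q.asIdeal)) =
      q.asIdeal.comap (algebraMap R S) := by
    ext r
    rw [Ideal.mem_comap, Ideal.mem_bot, IsScalarTower.algebraMap_apply R S (S ⧸ q.asIdeal),
      Ideal.Quotient.algebraMap_eq, Ideal.Quotient.eq_zero_iff_mem]
    rfl
  haveI := Ideal.isMaximal_of_isIntegral_of_isMaximal_comap (R := R) (⊥ : Ideal (S ⧸ q.asIdeal))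
    (hcomap ▸ inferInstance)
  exact Ideal.Quotient.maximal_of_isField _ (Ring.isField_iff_maximal_bot.2 inferInstance)

theorem isIntegral_quotient_tensor (hint : ∀ q : PrimeSpectrum S, Algebra.IsIntegral R (S ⧸ q.asIdeal))
    (Q : PrimeSpectrum (S ⊗[R] S)) : Algebra.IsIntegral R ((S ⊗[R] S) ⧸ Q.asIdeal) := by
  refine ⟨fun z => ?_⟩
  obtain ⟨z, rfl⟩ := Ideal.Quotient.mk_surjective z
  have key : ∀ (i : S →ₐ[R] S ⊗[R] S) (s : S), IsIntegral R (Ideal.Quotient.mk Q.asIdeal (i s)) := by
    intro i s
    haveI := hint (comap i.toRingHom Q)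
    let g : (S ⧸ (comap i.toRingHom Q).asIdeal) →ₐ[R] (S ⊗[R] S) ⧸ Q.asIdeal :=
      Ideal.Quotient.liftₐ _ ((Ideal.Quotient.mkₐ R Q.asIdeal).comp i) fun a ha =>
        Ideal.Quotient.eq_zero_iff_mem.2 ha
    exact (Algebra.IsIntegral.isIntegral (R := R) (Ideal.Quotient.mk _ s)).map g
  induction z with
  | zero => rw [map_zero]; exact isIntegral_zero
  | tmul x y =>
    rw [show x ⊗ₜ[R] y = (Algebra.TensorProduct.includeLeft : S →ₐ[R] S ⊗[R] S) x *
      (Algebra.TensorProduct.includeRight : S →ₐ[R] S ⊗[R] S) y by simp, map_mul]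
    exact (key _ x).mul (key _ y)
  | add x y hx hy => rw [map_add]; exact hx.add hy

/-- Two homomorphisms with the same kernel to a field agree, when residue fields of the base are
separably closed. -/
theorem algHom_eq_of_ker_eq {Ω : Type u} [Field Ω] [Algebra R Ω]
    (hR : ∀ p : PrimeSpectrum R, p.asIdeal.IsMaximal)
    (hsep : ∀ p : PrimeSpectrum R, IsSepClosed p.asIdeal.ResidueField)
    (hint : ∀ q : PrimeSpectrum S, Algebra.IsIntegral R (S ⧸ q.asIdeal))
    (f g : S →ₐ[R] Ω) (h : RingHom.ker f.toRingHom = RingHom.ker g.toRingHom) : f = g := by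
  let n : PrimeSpectrum S := ⟨RingHom.ker f.toRingHom, RingHom.ker_isPrime _⟩
  haveI := isMaximal_of_integral_quotient R S hR hint n
  haveI := hint n
  let p : PrimeSpectrum R := comap (algebraMap R S) n
  haveI := hR p
  letI := Ideal.Quotient.field p.asIdeal
  letI := Ideal.Quotient.field n.asIdeal
  haveI := hsep p
  haveI : IsSepClosed (R ⧸ p.asIdeal) :=
    isSepClosed_of_ringEquiv (RingEquiv.ofBijective _ p.asIdeal.bijective_algebraMap_quotient_residueField).symm
  let i : R ⧸ p.asIdeal →+* S ⧸ n.asIdeal := Ideal.quotientMap n.asIdeal (algebraMap R S) (le_refl _)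
  let F : S ⧸ n.asIdeal →+* Ω := Ideal.Quotient.lift n.asIdeal f.toRingHom fun a ha => ha
  let G : S ⧸ n.asIdeal →+* Ω := Ideal.Quotient.lift n.asIdeal g.toRingHom fun a ha => by
    exact (show a ∈ RingHom.ker g.toRingHom from h ▸ ha)
  letI := i.toAlgebra
  letI : Algebra (R ⧸ p.asIdeal) Ω := (F.comp i).toAlgebra
  haveI : IsScalarTower R (R ⧸ p.asIdeal) (S ⧸ n.asIdeal) := IsScalarTower.of_algebraMap_eq fun r => rfl
  haveI : Algebra.IsIntegral (R ⧸ p.asIdeal) (S ⧸ n.asIdeal) := Algebra.IsIntegral.tower_top R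
  haveI : Algebra.IsAlgebraic (R ⧸ p.asIdeal) (S ⧸ n.asIdeal) := inferInstance
  let F' : S ⧸ n.asIdeal →ₐ[R ⧸ p.asIdeal] Ω := { F with commutes' := fun r => rfl }
  let G' : S ⧸ n.asIdeal →ₐ[R ⧸ p.asIdeal] Ω :=
    { G with
      commutes' := fun r => by
        obtain ⟨r, rfl⟩ := Ideal.Quotient.mk_surjective r
        exact (g.commutes r).trans (f.commutes r).symm }
  ext s
  exact AlgHom.congr_fun (Subsingleton.elim F' G') (Ideal.Quotient.mk _ s)

theorem extremallyDisconnected_of_finitePresentation [IsReduced R]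
    [ExtremallyDisconnected (PrimeSpectrum R)]
    (hR : ∀ p : PrimeSpectrum R, p.asIdeal.IsMaximal)
    (hsep : ∀ p : PrimeSpectrum R, IsSepClosed p.asIdeal.ResidueField)
    [Algebra.FinitePresentation R S]
    (hint : ∀ q : PrimeSpectrum S, Algebra.IsIntegral R (S ⧸ q.asIdeal)) :
    ExtremallyDisconnected (PrimeSpectrum S) := by
  haveI := totallySeparatedSpace hR
  have hS := isMaximal_of_integral_quotient R S hR hint
  haveI := totallySeparatedSpace hS
  have hreg : Groth.Agent.AbsFlat.Regular R := Groth.Agent.AbsFlat.regular_of_isField_atPrime fun p hp =>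
    Groth.Agent.AbsFlat.isField_atPrime_of_isReduced (fun p hp => hR ⟨p, hp⟩) p
  haveI : Module.Flat R S := hreg.flat S
  refine extremallyDisconnected_of_isOpenMap_locallyInjective (continuous_comap (algebraMap R S))
    isOpenMap_comap_of_hasGoingDown_of_finitePresentation fun n => ?_
  let μ := Algebra.TensorProduct.lmul' R (S := S)
  let D : Ideal (S ⊗[R] S) := RingHom.ker μ.toRingHom
  have hT : ∀ Q : PrimeSpectrum (S ⊗[R] S), Q.asIdeal.IsMaximal :=
    isMaximal_of_integral_quotient R (S ⊗[R] S) hR (isIntegral_quotient_tensor R S hint)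
  have hDfg : D.FG := KaehlerDifferential.ideal_fg R S
  obtain ⟨t, ht⟩ := hDfg
  have hopen : IsOpen (zeroLocus (D : Set (S ⊗[R] S))) := by
    have : zeroLocus (D : Set (S ⊗[R] S)) = ⋂ a ∈ t, zeroLocus {a} := by
      rw [← ht, zeroLocus_span]
      ext Q
      simp [mem_zeroLocus, Set.subset_def]
    rw [this]
    refine isOpen_biInter_finset fun a _ => ?_
    rw [← compl_compl (zeroLocus {a}), ← basicOpen_eq_zeroLocus_compl]
    exact (isClopen_basicOpen hT a).1.isOpen_compl
  let il : S →ₐ[R] S ⊗[R] S := Algebra.TensorProduct.includeLeft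
  let ir : S →ₐ[R] S ⊗[R] S := Algebra.TensorProduct.includeRight
  let Ψ : PrimeSpectrum (S ⊗[R] S) → PrimeSpectrum S × PrimeSpectrum S := fun Q =>
    (comap il.toRingHom Q, comap ir.toRingHom Q)
  have hΨ : Continuous Ψ := (continuous_comap _).prodMk (continuous_comap _)
  have hdiag : ∀ Q, Ψ Q = (n, n) → Q ∈ zeroLocus (D : Set (S ⊗[R] S)) := by
    intro Q hQ z hz
    let h : S ⊗[R] S →ₐ[R] Q.asIdeal.ResidueField := IsScalarTower.toAlgHom R _ _
    have hk : ∀ i : S →ₐ[R] S ⊗[R] S,
        RingHom.ker (h.comp i).toRingHom = (comap i.toRingHom Q).asIdeal := fun i => by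
      ext x
      exact Ideal.algebraMap_residueField_eq_zero
    have he := algHom_eq_of_ker_eq R S hR hsep hint (h.comp il) (h.comp ir) (by
      rw [hk, hk, show comap il.toRingHom Q = n from congrArg Prod.fst hQ,
        show comap ir.toRingHom Q = n from congrArg Prod.snd hQ])
    have hh : h = (h.comp il).comp μ := by
      refine Algebra.TensorProduct.ext' fun x y => ?_
      have := AlgHom.congr_fun he y
      simp only [AlgHom.comp_apply, il, ir, Algebra.TensorProduct.includeLeft_apply,
        Algebra.TensorProduct.includeRight_apply] at this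
      simp only [AlgHom.comp_apply, μ, il, Algebra.TensorProduct.lmul'_apply_tmul,
        Algebra.TensorProduct.includeLeft_apply]
      rw [show (x * y) ⊗ₜ[R] (1 : S) = (x ⊗ₜ[R] (1 : S)) * (y ⊗ₜ[R] (1 : S)) by simp, map_mul, this,
        ← map_mul]
      simp
    have h0 : h z = 0 := by rw [hh, AlgHom.comp_apply, show μ z = 0 from hz, map_zero]
    exact Ideal.algebraMap_residueField_eq_zero.1 h0
  have hcl : IsClosed (Ψ '' (zeroLocus (D : Set (S ⊗[R] S)))ᶜ) :=
    (hopen.isClosed_compl.isCompact.image hΨ).isClosed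
  obtain ⟨U, V, hU, hV, hnU, hnV, hUV⟩ := isOpen_prod_iff.1 hcl.isOpen_compl n n (by
    rintro ⟨Q, hQ, hQn⟩
    exact hQ (hdiag Q hQn))
  refine ⟨U ∩ V, hU.inter hV, ⟨hnU, hnV⟩, fun a ha b hb hab => ?_⟩
  by_contra hne
  obtain ⟨Q, hQa, hQb⟩ := exists_prime_tensor (A := R) (B := S) (C := S) b a hab.symm
  refine hUV (Set.mk_mem_prod ha.1 hb.2) ⟨Q, fun hQ => hne ?_, Prod.ext hQa hQb⟩
  rw [← hQa, ← hQb]
  ext x
  show il x ∈ Q.asIdeal ↔ ir x ∈ Q.asIdeal
  have hxd : il x - ir x ∈ Q.asIdeal := hQ (show μ (il x - ir x) = 0 by simp [μ, il, ir])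
  exact ⟨fun h => by simpa using Q.asIdeal.sub_mem h hxd, fun h => by simpa using Q.asIdeal.add_mem hxd h⟩

end Spec

/-- A local ring finite over a strictly henselian local ring is strictly henselian. -/
theorem strictlyHenselian_of_finite (R L : Type u) [CommRing R] [CommRing L] [HenselianLocalRing R]
    [IsSepClosed (IsLocalRing.ResidueField R)] [IsLocalRing L] [Algebra R L] [Module.Finite R L] :
    EtCoh.IsStrictlyHenselianLocalRing L := by
  haveI : Algebra.IsIntegral R L := Algebra.IsIntegral.of_finite R L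
  have hcomap : (IsLocalRing.maximalIdeal L).comap (algebraMap R L) = IsLocalRing.maximalIdeal R :=
    IsLocalRing.eq_maximalIdeal (Ideal.isMaximal_comap_of_isIntegral_of_isMaximal (R := R) _)
  haveI : IsLocalHom (algebraMap R L) := ((IsLocalRing.local_hom_TFAE _).out 0 4 rfl rfl).mpr hcomap
  have hrad : ((IsLocalRing.maximalIdeal R).map (algebraMap R L)).radical = IsLocalRing.maximalIdeal L := by
    rw [Ideal.radical_eq_sInf]
    refine le_antisymm (sInf_le ⟨((IsLocalRing.local_hom_TFAE _).out 0 2 rfl rfl).mp inferInstance,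
      inferInstance⟩) (le_sInf fun P ⟨hP, hPp⟩ => ?_)
    haveI := hPp
    have : P.comap (algebraMap R L) = IsLocalRing.maximalIdeal R :=
      ((IsLocalRing.maximalIdeal.isMaximal R).eq_of_le (Ideal.IsPrime.ne_top inferInstance)
        (Ideal.map_le_iff_le_comap.mp hP)).symm
    exact (IsLocalRing.eq_maximalIdeal
      (Ideal.isMaximal_of_isIntegral_of_isMaximal_comap (R := R) P (this ▸ IsLocalRing.maximalIdeal.isMaximal R))).ge
  haveI hH : HenselianLocalRing L := by
    have h1 := Hensel.henselianRing_of_isIntegral (IsLocalRing.maximalIdeal R) L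
    refine Hensel.henselianLocalRing_of_henselianRing ((Hensel.henselianRing_iff_of_radical_eq ?_).mp h1)
    rw [hrad, (IsLocalRing.maximalIdeal.isMaximal L).isPrime.radical]
  exact ⟨hH, Algebra.IsAlgebraic.isSepClosed (F := IsLocalRing.ResidueField R)⟩

section Finite

variable (A B : Type u) [CommRing A] [CommRing B] [Algebra A B] [Module.Finite A B]

theorem finite_local_props (m : Ideal A) [m.IsMaximal]
    (hm : EtCoh.IsStrictlyHenselianLocalRing (Localization.AtPrime m)) :
    (∀ (q n₁ n₂ : Ideal B), q.IsPrime → n₁.IsMaximal → n₂.IsMaximal →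
      n₁.comap (algebraMap A B) = m → n₂.comap (algebraMap A B) = m → q ≤ n₁ → q ≤ n₂ → n₁ = n₂) ∧
    ∀ (n : Ideal B) [n.IsMaximal], n.comap (algebraMap A B) = m →
      EtCoh.IsStrictlyHenselianLocalRing (Localization.AtPrime n) := by
  obtain ⟨_, _⟩ := hm
  let M := Algebra.algebraMapSubmonoid B m.primeCompl
  let R := Localization.AtPrime m
  let T := Localization M
  letI : Algebra R T := localizationAlgebra m.primeCompl B
  haveI : IsScalarTower A R T := IsScalarTower.of_algebraMap_eq fun a => by
    rw [IsScalarTower.algebraMap_apply A B T]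
    exact (IsLocalization.map_eq (S := R) (Q := T) (T := M) (g := algebraMap A B)
      (show m.primeCompl ≤ M.comap (algebraMap A B) from Submonoid.le_comap_map _) a).symm
  haveI : Module.Finite R T := Module.Finite.of_isLocalization A B m.primeCompl
  haveI : Algebra.IsIntegral R T := Algebra.IsIntegral.of_finite R T
  obtain ⟨_, e, he, hnot, huniq, -⟩ :=
    Hensel.exists_completeOrthogonalIdempotents_isLocalRing (R := R) (S := T)
  have hdisj : ∀ q : Ideal B, q.IsPrime → q.comap (algebraMap A B) ≤ m →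
      Disjoint (M : Set B) (q : Set B) := fun q _ hq => Set.disjoint_left.2 fun b ⟨a, ha, hab⟩ hbq =>
    ha (hq (show algebraMap A B a ∈ q from hab ▸ hbq))
  have hmax : ∀ n : Ideal B, n.IsMaximal → n.comap (algebraMap A B) = m →
      (n.map (algebraMap B T)).IsMaximal ∧ (n.map (algebraMap B T)).comap (algebraMap B T) = n := by
    intro n hn hnm
    have hd := hdisj n hn.isPrime hnm.le
    haveI hp := IsLocalization.isPrime_of_isPrime_disjoint M T n hn.isPrime hd
    have hc := IsLocalization.under_map_of_isPrime_disjoint M T hn.isPrime hd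
    refine ⟨?_, hc⟩
    obtain ⟨N, hN, hle⟩ := Ideal.exists_le_maximal _ hp.ne_top
    have h1 : n = N.comap (algebraMap B T) := hn.eq_of_le (Ideal.IsPrime.comap _ (hK := hN.isPrime)).ne_top
      (Ideal.map_le_iff_le_comap.1 hle)
    have h2 : N = n.map (algebraMap B T) := by rw [h1]; exact (IsLocalization.map_under M T N).symm
    rwa [← h2]
  constructor
  · intro q n₁ n₂ hq hn₁ hn₂ h₁ h₂ hq₁ hq₂
    by_contra hne
    obtain ⟨hN₁, hc₁⟩ := hmax n₁ hn₁ h₁
    obtain ⟨hN₂, hc₂⟩ := hmax n₂ hn₂ h₂
    have hd := hdisj q hq ((Ideal.comap_mono hq₁).trans h₁.le)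
    haveI hq' := IsLocalization.isPrime_of_isPrime_disjoint M T q hq hd
    have hne' : n₂.map (algebraMap B T) ≠ n₁.map (algebraMap B T) := fun h => hne (by rw [← hc₁, ← hc₂, h])
    let i : MaximalSpectrum T := ⟨_, hN₁⟩
    have h2 : e i ∈ n₂.map (algebraMap B T) := by
      by_contra h
      exact hne' (congrArg MaximalSpectrum.asIdeal (huniq i ⟨_, hN₂⟩ h))
    have h0 : e i * (1 - e i) ∈ q.map (algebraMap B T) := by
      rw [mul_sub, mul_one, (he.idem i).eq, sub_self]; exact Ideal.zero_mem _
    rcases hq'.mem_or_mem h0 with h | h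
    · exact hnot i (Ideal.map_mono hq₁ h)
    · exact hN₂.ne_top ((Ideal.eq_top_iff_one _).2 (by
        simpa using Ideal.add_mem _ h2 (Ideal.map_mono hq₂ h)))
  · intro n _ hnm
    obtain ⟨hN, hc⟩ := hmax n ‹_› hnm
    let N := n.map (algebraMap B T)
    haveI : N.IsMaximal := hN
    haveI : N.LiesOver (IsLocalRing.maximalIdeal R) :=
      ⟨(IsLocalRing.eq_maximalIdeal (Ideal.isMaximal_comap_of_isIntegral_of_isMaximal (R := R) N)).symm⟩
    haveI := Hensel.finite_localization_of_quasiFiniteAt (R := R) N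
    refine strictlyHenselian_of_ringEquiv ?_ (strictlyHenselian_of_finite R (Localization.AtPrime N))
    haveI : IsLocalization.AtPrime (Localization.AtPrime N) n := by
      have := IsLocalization.isLocalization_isLocalization_atPrime_isLocalization M (Localization.AtPrime N) N
      simp only [N, hc] at this
      exact this
    exact (IsLocalization.algEquiv n.primeCompl (Localization.AtPrime N) (Localization.AtPrime n)).toRingEquiv

theorem isWContractible_of_finite [Algebra.FinitePresentation A B] (h : EtPBC.IsWContractible A) :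
    EtPBC.IsWContractible B := by
  obtain ⟨hA, hE, hsh⟩ := conditions_of_hasIndEtaleRetractions (hasIndEtaleRetractions_of_isWContractible h)
  haveI : Algebra.IsIntegral A B := Algebra.IsIntegral.of_finite A B
  have hiff : ∀ q : PrimeSpectrum B, q ∈ ProEtW.closedPoints (PrimeSpectrum B) ↔
      comap (algebraMap A B) q ∈ ProEtW.closedPoints (PrimeSpectrum A) := fun q => by
    rw [mem_closedPoints, mem_closedPoints]
    exact ⟨fun h => Ideal.isMaximal_comap_of_isIntegral_of_isMaximal (R := A) (hI := h) q.asIdeal,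
      fun h => Ideal.isMaximal_of_isIntegral_of_isMaximal_comap (R := A) q.asIdeal h⟩
  have hclosed : IsClosed (ProEtW.closedPoints (PrimeSpectrum B)) := by
    rw [show ProEtW.closedPoints (PrimeSpectrum B) = comap (algebraMap A B) ⁻¹' ProEtW.closedPoints (PrimeSpectrum A)
      from Set.ext hiff]
    exact hA.2.1.preimage (continuous_comap _)
  have hB : ProEtW.IsWLocal (PrimeSpectrum B) := by
    refine ⟨inferInstance, hclosed, fun q => ?_⟩
    obtain ⟨n, hn, hle⟩ := Ideal.exists_le_maximal q.asIdeal q.isPrime.ne_top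
    refine ⟨⟨n, hn.isPrime⟩, ⟨mem_closedPoints.2 hn, (le_iff_specializes _ _).1 hle⟩, fun y ⟨hy, hqy⟩ => ?_⟩
    obtain ⟨c, -, huniq⟩ := hA.2.2 (comap (algebraMap A B) q)
    have e1 := huniq (comap (algebraMap A B) y) ⟨(hiff y).1 hy, hqy.map (continuous_comap _)⟩
    have e2 := huniq (comap (algebraMap A B) ⟨n, hn.isPrime⟩)
      ⟨(hiff _).1 (mem_closedPoints.2 hn), (le_iff_specializes _ _).1 (Ideal.comap_mono hle)⟩
    haveI hm : (n.comap (algebraMap A B)).IsMaximal :=
      Ideal.isMaximal_comap_of_isIntegral_of_isMaximal (R := A) (hI := hn) n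
    exact PrimeSpectrum.ext ((finite_local_props A B (n.comap (algebraMap A B)) (hsh _)).1 q.asIdeal y.asIdeal n q.isPrime
      (mem_closedPoints.1 hy) hn (congrArg PrimeSpectrum.asIdeal (e1.trans e2.symm)) rfl
      ((le_iff_specializes _ _).2 hqy) hle)
  refine isWContractible_of_conditions hB ?_ fun n _ => ?_
  · haveI := hA.1
    haveI := hB.1
    let J : Ideal A := vanishingIdeal (ProEtW.closedPoints (PrimeSpectrum A))
    have hJ : zeroLocus (J : Set A) = ProEtW.closedPoints (PrimeSpectrum A) := by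
      rw [zeroLocus_vanishingIdeal_eq_closure]
      exact hA.2.1.closure_eq
    let R := A ⧸ J
    haveI : IsReduced R := (Ideal.isRadical_iff_quotient_reduced J).1 (isRadical_vanishingIdeal _)
    have hmax : ∀ p : PrimeSpectrum A, J ≤ p.asIdeal → p.asIdeal.IsMaximal := fun p hp =>
      mem_closedPoints.1 (hJ ▸ (hp : p ∈ zeroLocus (J : Set A)))
    have hR := quotient_isMaximal hmax
    have hembA := isClosedEmbedding_comap_of_surjective R (Ideal.Quotient.mk J) Ideal.Quotient.mk_surjective
    have hrA : Set.range (comap (Ideal.Quotient.mk J)) = ProEtW.closedPoints (PrimeSpectrum A) := by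
      rw [range_comap_of_surjective _ _ Ideal.Quotient.mk_surjective, Ideal.mk_ker, hJ]
    let hR' : PrimeSpectrum R ≃ₜ ConnectedComponents (PrimeSpectrum A) :=
      (hembA.isEmbedding.toHomeomorph.trans (Homeomorph.setCongr hrA)).trans (closedPointsHomeo hA)
    haveI := extremallyDisconnected_of_homeo (X := ConnectedComponents (PrimeSpectrum A)) hR'.symm
    have hsep : ∀ p : PrimeSpectrum R, IsSepClosed p.asIdeal.ResidueField := fun p => by
      haveI := hR p
      haveI : (p.asIdeal.comap (Ideal.Quotient.mk J)).IsMaximal := Ideal.comap_isMaximal_of_surjective _ Ideal.Quotient.mk_surjective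
      obtain ⟨_, hs⟩ := hsh (p.asIdeal.comap (Ideal.Quotient.mk J))
      haveI : IsSepClosed (p.asIdeal.comap (Ideal.Quotient.mk J)).ResidueField := hs
      exact isSepClosed_of_ringEquiv (RingEquiv.ofBijective
        (Ideal.ResidueField.map (p.asIdeal.comap (Ideal.Quotient.mk J)) p.asIdeal (Ideal.Quotient.mk J) rfl)
        ⟨RingHom.injective _, fun y => by
          obtain ⟨r, rfl⟩ := p.asIdeal.algebraMap_residueField_surjective y
          obtain ⟨a, rfl⟩ := Ideal.Quotient.mk_surjective r
          exact ⟨algebraMap A _ a, Ideal.ResidueField.map_algebraMap _ _ _ _ _⟩⟩)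
    let S := R ⊗[A] B
    haveI : Algebra.IsIntegral R S := inferInstance
    haveI := extremallyDisconnected_of_finitePresentation R S hR hsep fun q => inferInstance
    let r : B →+* S := (Algebra.TensorProduct.includeRight : B →ₐ[A] S).toRingHom
    have hr : Function.Surjective r := fun z => by
      induction z using TensorProduct.induction_on with
      | zero => exact ⟨0, map_zero r⟩
      | tmul x b =>
        obtain ⟨a, rfl⟩ := Ideal.Quotient.mk_surjective x
        refine ⟨a • b, ?_⟩
        show (1 : R) ⊗ₜ[A] (a • b) = _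
        rw [tmul_smul, smul_tmul']
        congr 1
        exact (Algebra.algebraMap_eq_smul_one a).symm
      | add x y hx hy =>
        obtain ⟨u, rfl⟩ := hx
        obtain ⟨v, rfl⟩ := hy
        exact ⟨u + v, map_add r u v⟩
    have hemb := isClosedEmbedding_comap_of_surjective S r hr
    have hrange : Set.range (comap r) = ProEtW.closedPoints (PrimeSpectrum B) := by
      ext q
      rw [hiff]
      constructor
      · rintro ⟨s, rfl⟩
        rw [← hrA]
        refine ⟨comap (algebraMap R S) s, ?_⟩
        rw [← comap_comp_apply, ← comap_comp_apply]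
        congr 1
        exact ((Algebra.TensorProduct.includeRight : B →ₐ[A] S).comp_algebraMap).symm
      · intro hq
        obtain ⟨p, hp⟩ := hrA.symm ▸ hq
        obtain ⟨Q, -, hQ⟩ := exists_prime_tensor (A := A) (B := B) (C := R) q p hp.symm
        exact ⟨Q, hQ⟩
    exact extremallyDisconnected_of_homeo
      ((hemb.isEmbedding.toHomeomorph.trans (Homeomorph.setCongr hrange)).trans (closedPointsHomeo hB))
  · haveI : (n.comap (algebraMap A B)).IsMaximal :=
      Ideal.isMaximal_comap_of_isIntegral_of_isMaximal (R := A) n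
    exact (finite_local_props A B _ (hsh _)).2 n rfl

end Finite

end GrothLib.WLocal
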