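import Groth.Prelude.Def_ProEtW

/-!
# w-local spaces
-/

set_option autoImplicit false

universe u

open Topology TopologicalSpace

namespace GrothLib.WLocal

variable {X : Type u} [TopologicalSpace X]

theorem spectralSpace_of_isClosedEmbedding {Y : Type u} [TopologicalSpace Y] [SpectralSpace X]
    {f : Y → X} (hf : IsClosedEmbedding f) : SpectralSpace Y := by
  haveI := hf.isEmbedding.t0Space
  haveI := hf.compactSpace
  haveI := hf.quasiSober
  haveI := PrespectralSpace.of_isClosedEmbedding f hf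
  have hb := (PrespectralSpace.isTopologicalBasis (X := X)).isInducing hf.isInducing
  haveI : QuasiSeparatedSpace Y := by
    refine QuasiSeparatedSpace.of_isTopologicalBasis (b := fun s : {U : Set X // IsOpen U ∧ IsCompact U} => f ⁻¹' s.1) ?_ ?_
    · convert hb using 1
      ext s
      constructor
      · rintro ⟨⟨U, hU⟩, rfl⟩; exact ⟨U, hU, rfl⟩
      · rintro ⟨U, hU, rfl⟩; exact ⟨⟨U, hU⟩, rfl⟩
    · rintro ⟨U, hU⟩ ⟨V, hV⟩
      rw [← Set.preimage_inter]
      exact hf.isProperMap.isCompact_preimage (hU.2.inter_of_isOpen hV.2 hU.1 hV.1)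
  exact { }

theorem closedPoints_subtype {Y : Set X} (hY : IsClosed Y) (y : Y) :
    IsClosed ({y} : Set Y) ↔ IsClosed ({(y : X)} : Set X) := by
  rw [hY.isClosedEmbedding_subtypeVal.isClosed_iff_image_isClosed, Set.image_singleton]

theorem isWLocal_of_isClosed (hX : ProEtW.IsWLocal X) {Y : Set X} (hY : IsClosed Y) :
    ProEtW.IsWLocal Y := by
  obtain ⟨hs, hc, hu⟩ := hX
  haveI := hs
  refine ⟨spectralSpace_of_isClosedEmbedding hY.isClosedEmbedding_subtypeVal, ?_, fun y => ?_⟩
  · have : {y : Y | IsClosed ({y} : Set Y)} = Subtype.val ⁻¹' {x : X | IsClosed ({x} : Set X)} :=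
      Set.ext fun y => closedPoints_subtype hY y
    rw [this]
    exact hc.preimage continuous_subtype_val
  · obtain ⟨c, ⟨hcc, hyc⟩, huniq⟩ := hu y
    have hcY : c ∈ Y := hyc.mem_closed hY y.2
    refine ⟨⟨c, hcY⟩, ⟨(closedPoints_subtype hY _).2 hcc, (subtype_specializes_iff _ _).2 hyc⟩, ?_⟩
    rintro d ⟨hd, hyd⟩
    exact Subtype.ext (huniq d ⟨(closedPoints_subtype hY d).1 hd, (subtype_specializes_iff _ _).1 hyd⟩)

end GrothLib.WLocal
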