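import Groth.Agent.Lib.WLocal.Basic
import Groth.Agent.Lib.WLocal.Components
import Mathlib.Topology.Separation.Profinite

/-!
# Pullbacks of spectral spaces along maps of profinite spaces to the space of components
-/

set_option autoImplicit false

universe u

open Set Topology TopologicalSpace

namespace GrothLib.WLocal

variable {X T : Type u} [TopologicalSpace X] [TopologicalSpace T] [CompactSpace T] [T2Space T]
  [TotallyDisconnectedSpace T]

theorem spectralSpace_prod [SpectralSpace X] : SpectralSpace (X × T) := by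
  have hb := (PrespectralSpace.isTopologicalBasis (X := X)).prod
    (loc_compact_Haus_tot_disc_of_zero_dim (H := T))
  haveI : PrespectralSpace (X × T) := by
    refine PrespectralSpace.of_isTopologicalBasis hb ?_
    rintro _ ⟨U, hU, C, hC, rfl⟩
    exact hU.2.prod hC.1.isCompact
  haveI : QuasiSeparatedSpace (X × T) := by
    refine QuasiSeparatedSpace.of_isTopologicalBasis
      (b := fun p : {U : Set X // IsOpen U ∧ IsCompact U} × {C : Set T // IsClopen C} => p.1.1 ×ˢ p.2.1) ?_ ?_
    · convert hb using 1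
      ext s
      constructor
      · rintro ⟨⟨⟨U, hU⟩, ⟨C, hC⟩⟩, rfl⟩; exact ⟨U, hU, C, hC, rfl⟩
      · rintro ⟨U, hU, C, hC, rfl⟩; exact ⟨⟨⟨U, hU⟩, ⟨C, hC⟩⟩, rfl⟩
    · rintro ⟨⟨U, hU⟩, ⟨C, hC⟩⟩ ⟨⟨V, hV⟩, ⟨D, hD⟩⟩
      rw [prod_inter_prod]
      exact (hU.2.inter_of_isOpen hV.2 hU.1 hV.1).prod (hC.inter hD).1.isCompact
  haveI : QuasiSober (X × T) := by
    refine ⟨fun {S} hS hSc => ?_⟩
    obtain ⟨⟨x₀, t⟩, h0⟩ := hS.nonempty
    have hsnd : ∀ p ∈ S, p.2 = t := fun p hp =>
      (hS.isPreirreducible.image Prod.snd continuous_snd.continuousOn).subsingleton ⟨p, hp, rfl⟩ ⟨_, h0, rfl⟩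
    have hirr : IsIrreducible (Prod.fst '' S) := hS.image _ continuous_fst.continuousOn
    have hcl : IsClosed (Prod.fst '' S) := isClosedMap_fst_of_compactSpace _ hSc
    obtain ⟨g, hg⟩ := QuasiSober.sober hirr hcl
    refine ⟨(g, t), isGenericPoint_iff_specializes.2 fun ⟨y, s⟩ => ?_⟩
    rw [specializes_prod, isGenericPoint_iff_specializes.1 hg, specializes_iff_eq]
    constructor
    · rintro ⟨⟨q, hq, rfl⟩, rfl⟩
      rw [← hsnd q hq]
      exact hq
    · exact fun h => ⟨⟨_, h, rfl⟩, (hsnd _ h).symm⟩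
  exact { }

variable (g : C(T, ConnectedComponents X))

/-- The pullback. -/
abbrev Pullback : Type u := {p : X × T // ConnectedComponents.mk p.1 = g p.2}

variable [SpectralSpace X]

theorem isClosed_pullback : IsClosed {p : X × T | ConnectedComponents.mk p.1 = g p.2} :=
  isClosed_eq (ConnectedComponents.continuous_coe.comp continuous_fst) (g.continuous.comp continuous_snd)

theorem spectralSpace_pullback : SpectralSpace (Pullback g) :=
  haveI := spectralSpace_prod (X := X) (T := T)
  spectralSpace_of_isClosedEmbedding (isClosed_pullback g).isClosedEmbedding_subtypeVal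

theorem exists_homeomorph :
    ∃ e : ConnectedComponents (Pullback g) ≃ₜ T, ∀ y : Pullback g, e (ConnectedComponents.mk y) = y.1.2 := by
  haveI := spectralSpace_pullback g
  let p : C(Pullback g, T) := ⟨fun y => y.1.2, continuous_snd.comp continuous_subtype_val⟩
  let f : ConnectedComponents (Pullback g) → T := p.continuous.connectedComponentsLift
  have hf : ∀ y, f (ConnectedComponents.mk y) = y.1.2 := fun y => rfl
  have hinj : Function.Injective f := by
    intro a b hab
    obtain ⟨⟨⟨x, t⟩, hx⟩, rfl⟩ := ConnectedComponents.surjective_coe a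
    obtain ⟨⟨⟨x', t'⟩, hx'⟩, rfl⟩ := ConnectedComponents.surjective_coe b
    rw [hf, hf] at hab
    simp only at hab
    subst hab
    have hxx : x' ∈ connectedComponent x := ConnectedComponents.coe_eq_coe'.1 (hx'.trans hx.symm)
    let ι : connectedComponent x → Pullback g := fun z =>
      ⟨(z.1, t), ((ConnectedComponents.coe_eq_coe'.2 z.2).trans hx)⟩
    have hι : Continuous ι := by fun_prop
    haveI : ConnectedSpace (connectedComponent x) :=
      isConnected_iff_connectedSpace.1 isConnected_connectedComponent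
    refine ConnectedComponents.coe_eq_coe'.2 ?_
    exact ((isPreconnected_range hι).subset_connectedComponent ⟨⟨x', hxx⟩, rfl⟩) ⟨⟨x, mem_connectedComponent⟩, rfl⟩
  have hsurj : Function.Surjective f := fun t => by
    obtain ⟨x, hx⟩ := ConnectedComponents.surjective_coe (g t)
    exact ⟨ConnectedComponents.mk ⟨(x, t), hx⟩, rfl⟩
  refine ⟨Continuous.homeoOfEquivCompactToT2 (f := Equiv.ofBijective f ⟨hinj, hsurj⟩)
    p.continuous.connectedComponentsLift_continuous, hf⟩

theorem specializes_iff {y z : Pullback g} : y ⤳ z ↔ y.1.1 ⤳ z.1.1 ∧ y.1.2 = z.1.2 := by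
  rw [subtype_specializes_iff, show y.1 = (y.1.1, y.1.2) from rfl, show z.1 = (z.1.1, z.1.2) from rfl,
    specializes_prod, specializes_iff_eq (x := y.1.2) (y := z.1.2)]

omit [CompactSpace T] [T2Space T] [TotallyDisconnectedSpace T] [SpectralSpace X] in
theorem mk_eq_of_specializes {x x' : X} (h : x ⤳ x') :
    (ConnectedComponents.mk x') = ConnectedComponents.mk x :=
  ConnectedComponents.coe_eq_coe'.2 (h.mem_closed isClosed_connectedComponent mem_connectedComponent)

theorem isClosed_singleton_iff {y : Pullback g} :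
    IsClosed ({y} : Set (Pullback g)) ↔ IsClosed ({y.1.1} : Set X) := by
  constructor
  · intro h
    refine closure_subset_iff_isClosed.1 fun x hx => ?_
    have hsp : y.1.1 ⤳ x := specializes_iff_mem_closure.2 hx
    have hz : y ⤳ (⟨(x, y.1.2), (mk_eq_of_specializes hsp).trans y.2⟩ : Pullback g) :=
      (specializes_iff g).2 ⟨hsp, rfl⟩
    have := hz.mem_closed h rfl
    exact congrArg (fun z : Pullback g => z.1.1) this
  · intro h
    refine closure_subset_iff_isClosed.1 fun z hz => ?_
    obtain ⟨h1, h2⟩ := (specializes_iff g).1 (specializes_iff_mem_closure.2 hz)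
    exact Subtype.ext (Prod.ext (h1.mem_closed h rfl) h2.symm)

theorem isWLocal_pullback (hX : ProEtW.IsWLocal X) :
    ProEtW.IsWLocal (Pullback g) ∧ ProEtW.IsWLocalMap (fun y : Pullback g => y.1.1) ∧
      ProEtW.closedPoints (Pullback g) = (fun y : Pullback g => y.1.1) ⁻¹' ProEtW.closedPoints X := by
  obtain ⟨-, hc, hu⟩ := hX
  haveI := spectralSpace_pullback g
  have hcont : Continuous (fun y : Pullback g => y.1.1) := continuous_fst.comp continuous_subtype_val
  refine ⟨⟨inferInstance, ?_, fun y => ?_⟩, ⟨⟨hcont, fun U hUo hUc => ?_⟩,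
    fun y hy => (isClosed_singleton_iff g).1 hy⟩, Set.ext fun y => isClosed_singleton_iff g⟩
  · rw [show {y : Pullback g | IsClosed ({y} : Set (Pullback g))} = (fun y : Pullback g => y.1.1) ⁻¹'
      {x | IsClosed ({x} : Set X)} from Set.ext fun y => isClosed_singleton_iff g]
    exact hc.preimage hcont
  · obtain ⟨c, ⟨hcc, hyc⟩, huniq⟩ := hu y.1.1
    refine ⟨⟨(c, y.1.2), (mk_eq_of_specializes hyc).trans y.2⟩,
      ⟨(isClosed_singleton_iff g).2 hcc, (specializes_iff g).2 ⟨hyc, rfl⟩⟩, ?_⟩
    rintro z ⟨hz, hyz⟩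
    obtain ⟨h1, h2⟩ := (specializes_iff g).1 hyz
    exact Subtype.ext (Prod.ext (huniq _ ⟨(isClosed_singleton_iff g).1 hz, h1⟩) h2.symm)
  · have : (fun y : Pullback g => y.1.1) ⁻¹' U = Subtype.val ⁻¹' (U ×ˢ (univ : Set T)) := by
      ext y; simp
    rw [this]
    exact (isClosed_pullback g).isClosedEmbedding_subtypeVal.isProperMap.isCompact_preimage
      (hUc.prod isCompact_univ)

end GrothLib.WLocal
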