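import Groth.Agent.Lib.IndEt.Idempotents
import Groth.Agent.Lib.WLocal.Pullback
import Mathlib.Topology.LocallyConstant.Algebra

/-!
# Ind-Zariski algebras realizing profinite sets over the space of components
-/

set_option autoImplicit false

universe u

open PrimeSpectrum Topology

namespace GrothLib.WLocal

variable (A : Type u) [CommRing A] (T : Type u) [TopologicalSpace T]

/-- Locally constant functions with values in a ring. -/
abbrev LC : Type u := LocallyConstant T A

/-- Evaluation. -/
noncomputable abbrev ev (t : T) : LC A T →ₐ[A] A := LocallyConstant.evalₐ A t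

/-- The point of the spectrum attached to a point of `Spec A` and a point of `T`. -/
noncomputable def pt (p : PrimeSpectrum A × T) : PrimeSpectrum (LC A T) :=
  comap (ev A T p.2).toRingHom p.1

theorem mem_pt {p : PrimeSpectrum A × T} {s : LC A T} : s ∈ (pt A T p).asIdeal ↔ s p.2 ∈ p.1.asIdeal :=
  Iff.rfl

variable [CompactSpace T]

theorem isIndLoc : IndEt.IsIndLoc A (LC A T) := by
  intro Z _ _ _ g
  classical
  obtain ⟨n, π, hπ, -⟩ := (inferInstance : Algebra.FinitePresentation A Z).out
  let φ : T → (Z →ₐ[A] A) := fun t => (ev A T t).comp g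
  have hlc : IsLocallyConstant φ := by
    refine (IsLocallyConstant.iff_exists_open _).2 fun t => ?_
    refine ⟨⋂ k : Fin n, {t' | g (π (MvPolynomial.X k)) t' = g (π (MvPolynomial.X k)) t},
      isOpen_iInter_of_finite fun k => (g (π (MvPolynomial.X k))).isLocallyConstant.isOpen_fiber _,
      Set.mem_iInter.2 fun _ => rfl, fun t' ht' => ?_⟩
    refine (AlgHom.cancel_right hπ).1 (MvPolynomial.algHom_ext fun k => ?_)
    exact Set.mem_iInter.1 ht' k
  have : Fintype (Set.range φ) := hlc.range_finite.fintype
  let e := Fintype.equivFin (Set.range φ)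
  haveI : IsLocalization.Away (1 : A) A :=
    IsLocalization.away_of_isUnit_of_bijective A isUnit_one Function.bijective_id
  let toA : Localization.Away (1 : A) →ₐ[A] A :=
    (IsLocalization.algEquiv (Submonoid.powers (1 : A)) (Localization.Away (1 : A)) A).toAlgHom
  let ψ : T → Fin (Fintype.card (Set.range φ)) := fun t => e ⟨φ t, t, rfl⟩
  have hψ : IsLocallyConstant ψ := by
    refine (IsLocallyConstant.iff_exists_open _).2 fun t => ?_
    obtain ⟨U, hU, htU, hUe⟩ := (IsLocallyConstant.iff_exists_open _).1 hlc t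
    exact ⟨U, hU, htU, fun t' ht' => congrArg e (Subtype.ext (hUe t' ht'))⟩
  refine ⟨Fintype.card (Set.range φ), fun _ => 1,
    AlgHom.pi fun i => (Algebra.ofId A _).comp (e.symm i).1,
    { toFun := fun h => ⟨fun t => toA (h (ψ t)), hψ.comp fun i => toA (h i)⟩
      map_one' := by ext t; simp
      map_mul' := fun _ _ => by ext t; simp
      map_zero' := by ext t; simp
      map_add' := fun _ _ => by ext t; simp
      commutes' := fun a => by
        ext t
        show toA (algebraMap A _ a) = _
        rw [AlgHom.commutes]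
        rfl }, ?_⟩
  refine AlgHom.ext fun z => LocallyConstant.ext fun t => ?_
  show toA (algebraMap A (Localization.Away (1 : A)) ((e.symm (e ⟨φ t, t, rfl⟩)).1 z)) = g z t
  rw [Equiv.symm_apply_apply, AlgHom.commutes]
  rfl

variable [T2Space T] [TotallyDisconnectedSpace T]

omit [CompactSpace T] [T2Space T] [TotallyDisconnectedSpace T] in
theorem charFn_of_mem {U : Set T} (hU : IsClopen U) {t : T} (h : t ∈ U) :
    LocallyConstant.charFn A hU t = 1 := by
  rw [LocallyConstant.coe_charFn, Set.indicator_of_mem h, Pi.one_apply]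

omit [CompactSpace T] [T2Space T] [TotallyDisconnectedSpace T] in
theorem charFn_of_notMem {U : Set T} (hU : IsClopen U) {t : T} (h : t ∉ U) :
    LocallyConstant.charFn A hU t = 0 := by
  rw [LocallyConstant.coe_charFn, Set.indicator_of_notMem h]

theorem pt_bijective : Function.Bijective (pt A T) := by
  constructor
  · rintro ⟨x, t⟩ ⟨x', t'⟩ h
    have hx : x = x' := by
      ext a
      have := congrArg (fun q => algebraMap A (LC A T) a ∈ q.asIdeal) h
      simpa [mem_pt] using this
    subst hx
    congr 1
    by_contra hne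
    obtain ⟨U, hU, htU, htU'⟩ := exists_isClopen_of_totally_separated hne
    have := congrArg (fun q => LocallyConstant.charFn A hU ∈ q.asIdeal) h
    simp only [mem_pt, eq_iff_iff] at this
    rw [charFn_of_mem A T hU htU, charFn_of_notMem A T hU htU'] at this
    exact x.isPrime.ne_top ((Ideal.eq_top_iff_one _).2 (this.2 x.asIdeal.zero_mem))
  · intro q
    obtain ⟨t, ht⟩ : ∃ t : T, ∀ (U : Set T) (hU : IsClopen U), t ∈ U →
        LocallyConstant.charFn A hU ∉ q.asIdeal := by
      by_contra hne
      push Not at hne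
      choose U hU htU hmem using hne
      obtain ⟨s, hs⟩ := isCompact_univ.elim_finite_subcover U (fun t => (hU t).2)
        (fun t _ => Set.mem_iUnion.2 ⟨t, htU t⟩)
      have h1 : ∏ i ∈ s, (1 - LocallyConstant.charFn A (hU i)) = 0 := by
        refine LocallyConstant.ext fun t => ?_
        obtain ⟨i, hi, hti⟩ := Set.mem_iUnion₂.1 (hs (Set.mem_univ t))
        show LocallyConstant.evalRingHom t (∏ i ∈ s, _) = 0
        rw [map_prod]
        refine Finset.prod_eq_zero hi ?_
        show 1 - LocallyConstant.charFn A (hU i) t = 0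
        rw [charFn_of_mem A T (hU i) hti, sub_self]
      have h2 : (0 : LC A T) ∈ q.asIdeal.primeCompl := by
        rw [← h1]
        exact prod_mem fun i _ h => q.isPrime.ne_top ((Ideal.eq_top_iff_one _).2
          (by simpa using q.asIdeal.add_mem h (hmem i)))
      exact h2 q.asIdeal.zero_mem
    refine ⟨(comap (algebraMap A (LC A T)) q, t), PrimeSpectrum.ext (SetLike.ext fun s => ?_)⟩
    rw [mem_pt]
    let U := {t' | s t' = s t}
    have hU : IsClopen U := s.isLocallyConstant.isClopen_fiber _
    have hmul : (s - algebraMap A (LC A T) (s t)) * LocallyConstant.charFn A hU = 0 := by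
      refine LocallyConstant.ext fun t' => ?_
      by_cases h : t' ∈ U
      · show (s t' - s t) * _ = 0
        rw [show s t' = s t from h, sub_self, zero_mul]
      · show _ * LocallyConstant.charFn A hU t' = 0
        rw [charFn_of_notMem A T hU h, mul_zero]
    have hsub : s - algebraMap A (LC A T) (s t) ∈ q.asIdeal :=
      (q.isPrime.mem_or_mem (hmul ▸ q.asIdeal.zero_mem)).resolve_right (ht U hU rfl)
    show algebraMap A (LC A T) (s t) ∈ q.asIdeal ↔ s ∈ q.asIdeal
    exact ⟨fun h => by simpa using q.asIdeal.add_mem hsub h,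
      fun h => by simpa using q.asIdeal.sub_mem h hsub⟩

theorem continuous_pt : Continuous (pt A T) := by
  refine isTopologicalBasis_basic_opens.continuous_iff.2 ?_
  rintro _ ⟨s, rfl⟩
  refine isOpen_iff_forall_mem_open.2 fun p hp =>
    ⟨(basicOpen (s p.2) : Set (PrimeSpectrum A)) ×ˢ {t | s t = s p.2}, fun q hq => ?_,
      (basicOpen _).2.prod (s.isLocallyConstant.isOpen_fiber _), hp, rfl⟩
  show s q.2 ∉ q.1.asIdeal
  rw [show s q.2 = s p.2 from hq.2]
  exact hq.1

theorem isOpenMap_pt : IsOpenMap (pt A T) := by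
  have hb := (isTopologicalBasis_basic_opens (R := A)).prod (loc_compact_Haus_tot_disc_of_zero_dim (H := T))
  refine hb.isOpenMap_iff.2 ?_
  rintro _ ⟨_, ⟨a, rfl⟩, U, hU, rfl⟩
  have : pt A T '' ((basicOpen a : Set (PrimeSpectrum A)) ×ˢ U) =
      (basicOpen (algebraMap A (LC A T) a * LocallyConstant.charFn A hU) : Set (PrimeSpectrum (LC A T))) := by
    ext q
    obtain ⟨⟨x, t⟩, rfl⟩ := (pt_bijective A T).2 q
    rw [(pt_bijective A T).1.mem_set_image]
    show a ∉ x.asIdeal ∧ t ∈ U ↔ (algebraMap A (LC A T) a * LocallyConstant.charFn A hU) t ∉ x.asIdeal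
    by_cases h : t ∈ U
    · have : (algebraMap A (LC A T) a * LocallyConstant.charFn A hU) t = a := by
        show a * LocallyConstant.charFn A hU t = a
        rw [charFn_of_mem A T hU h, mul_one]
      rw [this]; simp [h]
    · have : (algebraMap A (LC A T) a * LocallyConstant.charFn A hU) t = 0 := by
        show a * LocallyConstant.charFn A hU t = 0
        rw [charFn_of_notMem A T hU h, mul_zero]
      rw [this]; simp [h]
  rw [this]
  exact (basicOpen _).2

/-- `Spec LC(T, A) ≅ Spec A × T`. -/
noncomputable def specHomeo : PrimeSpectrum A × T ≃ₜ PrimeSpectrum (LC A T) :=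
  (Equiv.ofBijective _ (pt_bijective A T)).toHomeomorphOfContinuousOpen (continuous_pt A T) (isOpenMap_pt A T)

theorem specHomeo_apply (p : PrimeSpectrum A × T) : specHomeo A T p = pt A T p := rfl

variable {A T} (g : C(T, ConnectedComponents (PrimeSpectrum A)))

/-- The closed subset of the spectrum of locally constant functions cut out by `g`. -/
def pullSet : Set (PrimeSpectrum (LC A T)) := pt A T '' {p | ConnectedComponents.mk p.1 = g p.2}

/-- The ind-Zariski algebra realizing the pullback along `g`. -/
abbrev PullRing : Type u := Localization (IndEt.idemSubmonoid (pullSet g))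

omit [CompactSpace T] [T2Space T] [TotallyDisconnectedSpace T] in
theorem isIndLoc_pullRing : IndEt.IsIndLoc (LC A T) (PullRing g) :=
  IndEt.isIndLoc_of_isLocalization (IndEt.idemSubmonoid (pullSet g))

omit [T2Space T] [TotallyDisconnectedSpace T] in
theorem isIndZariski_pullRing : EtPBC.IsIndZariski A (PullRing g) :=
  IndEt.isIndZariski_trans (isIndLoc A T).isIndZariski (isIndLoc_pullRing g)

theorem exists_sep : ∀ q ∉ pullSet g, ∃ e : LC A T,
    IsIdempotentElem e ∧ (∀ y ∈ pullSet g, e ∉ y.asIdeal) ∧ e ∈ q.asIdeal := by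
  classical
  let L := LC A T
  intro q hq
  obtain ⟨⟨x, t⟩, rfl⟩ := (pt_bijective A T).2 q
  have hne : ConnectedComponents.mk x ≠ g t := fun h => hq ⟨(x, t), h, rfl⟩
  obtain ⟨z, hz⟩ := ConnectedComponents.surjective_coe (g t)
  obtain ⟨s, hs, hzs, hxs⟩ := exists_isClopen_of_mk_ne (x := z) (y := x) (by rw [hz]; exact hne.symm)
  obtain ⟨e, he, hse⟩ := PrimeSpectrum.isClopen_iff.1 hs
  have hcl : IsClopen (g ⁻¹' (ConnectedComponents.mk '' s)) :=
    (isClopen_image_mk hs).preimage g.continuous
  have hiff : ∀ {w : PrimeSpectrum A} {t' : T}, ConnectedComponents.mk w = g t' →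
      (t' ∈ g ⁻¹' (ConnectedComponents.mk '' s) ↔ e ∉ w.asIdeal) := fun {w t'} hw => by
    show g t' ∈ ConnectedComponents.mk '' s ↔ _
    rw [← hw, ← Set.mem_preimage, preimage_image_mk hs, hse]
    rfl
  let f : L := LocallyConstant.charFn A hcl * algebraMap A L e +
    (1 - LocallyConstant.charFn A hcl) * algebraMap A L (1 - e)
  have hf : ∀ t', (t' ∈ g ⁻¹' (ConnectedComponents.mk '' s) → f t' = e) ∧
      (t' ∉ g ⁻¹' (ConnectedComponents.mk '' s) → f t' = 1 - e) := fun t' => by
    constructor <;> intro h
    · show LocallyConstant.charFn A hcl t' * e + (1 - LocallyConstant.charFn A hcl t') * (1 - e) = e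
      rw [charFn_of_mem A T hcl h]; ring
    · show LocallyConstant.charFn A hcl t' * e + (1 - LocallyConstant.charFn A hcl t') * (1 - e) = 1 - e
      rw [charFn_of_notMem A T hcl h]; ring
  refine ⟨f, LocallyConstant.ext fun t' => ?_, ?_, ?_⟩
  · show f t' * f t' = f t'
    by_cases h : t' ∈ g ⁻¹' (ConnectedComponents.mk '' s)
    · rw [(hf t').1 h]; exact he
    · rw [(hf t').2 h]; exact he.one_sub
  · rintro _ ⟨⟨w, t'⟩, hw, rfl⟩
    rw [mem_pt]
    by_cases h : t' ∈ g ⁻¹' (ConnectedComponents.mk '' s)
    · rw [(hf t').1 h]; exact (hiff hw).1 h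
    · rw [(hf t').2 h]
      intro h1
      exact w.isPrime.ne_top ((Ideal.eq_top_iff_one _).2 (by
        simpa using w.asIdeal.add_mem h1 (not_not.1 fun h2 => h ((hiff hw).2 h2))))
  · rw [mem_pt, (hf t).1 ⟨z, hzs, hz⟩]
    by_contra h
    exact hxs (hse ▸ h)

theorem range_comap_pullRing :
    Set.range (comap (algebraMap (LC A T) (PullRing g))) = pullSet g :=
  IndEt.range_comap_idemSubmonoid (exists_sep g)

/-- The spectrum of the pullback ring is the pullback. -/
noncomputable def pullHomeo : PrimeSpectrum (PullRing g) ≃ₜ Pullback g :=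
  ((IndEt.isEmbedding_comap_idemSubmonoid (pullSet g)).toHomeomorph.trans
    (Homeomorph.setCongr (range_comap_pullRing g))).trans ((specHomeo A T).image _).symm

theorem pt_pullHomeo (y : PrimeSpectrum (PullRing g)) :
    pt A T (pullHomeo g y).1 = comap (algebraMap (LC A T) (PullRing g)) y :=
  congrArg Subtype.val (((specHomeo A T).image _).apply_symm_apply
    (((IndEt.isEmbedding_comap_idemSubmonoid (pullSet g)).toHomeomorph.trans
      (Homeomorph.setCongr (range_comap_pullRing g))) y))

theorem pullHomeo_fst (y : PrimeSpectrum (PullRing g)) :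
    (pullHomeo g y).1.1 = comap (algebraMap A (PullRing g)) y := by
  rw [IsScalarTower.algebraMap_eq A (LC A T) (PullRing g), comap_comp_apply, ← pt_pullHomeo g y]
  rfl

variable (A T)

/-- Ind-Zariski algebra whose spectrum is the pullback along a map to the space of components. -/
theorem exists_indZariski_pullback :
    ∃ (B : Type u) (_ : CommRing B) (_ : Algebra A B) (h : PrimeSpectrum B ≃ₜ Pullback g),
      EtPBC.IsIndZariski A B ∧ ∀ y, (h y).1.1 = comap (algebraMap A B) y :=
  ⟨PullRing g, inferInstance, inferInstance, pullHomeo g, isIndZariski_pullRing g, pullHomeo_fst g⟩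

end GrothLib.WLocal
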