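import Groth.Agent.Lib.WLocal.Along
import Groth.Agent.Lib.WLocal.ExtrDisc

/-!
# Retractions over w-local rings with extremally disconnected space of components
-/

set_option autoImplicit false

universe u

open PrimeSpectrum Topology

namespace GrothLib.WLocal

theorem local_elts {A B : Type u} [CommRing A] [CommRing B] [Algebra A B] (Q : Ideal B) [Q.IsPrime]
    (hbij : Function.Bijective (Localization.localRingHom (Q.comap (algebraMap A B)) Q (algebraMap A B) rfl)) :
    (∀ (a : A) (c : B), c ∉ Q → c * algebraMap A B a = 0 →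
      ∃ s, s ∉ Q.comap (algebraMap A B) ∧ s * a = 0) ∧
    ∀ b : B, ∃ (a s : A) (c : B), s ∉ Q.comap (algebraMap A B) ∧ c ∉ Q ∧
      c * (algebraMap A B s * b - algebraMap A B a) = 0 := by
  constructor
  · intro a c hc hca
    have hx : algebraMap A (Localization.AtPrime (Q.comap (algebraMap A B))) a = 0 := hbij.1 (by
      rw [Localization.localRingHom_to_map, map_zero]
      exact (IsLocalization.map_eq_zero_iff Q.primeCompl _ _).2 ⟨⟨c, hc⟩, hca⟩)
    obtain ⟨⟨s, hs⟩, hsa⟩ := (IsLocalization.map_eq_zero_iff (Q.comap (algebraMap A B)).primeCompl _ _).1 hx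
    exact ⟨s, hs, hsa⟩
  · intro b
    obtain ⟨x, hx⟩ := hbij.2 (algebraMap B (Localization.AtPrime Q) b)
    obtain ⟨a, ⟨s, hs⟩, rfl⟩ := IsLocalization.exists_mk'_eq (Q.comap (algebraMap A B)).primeCompl x
    rw [Localization.localRingHom_mk', IsLocalization.mk'_eq_iff_eq_mul, ← map_mul,
      IsLocalization.eq_iff_exists Q.primeCompl] at hx
    obtain ⟨⟨c, hc⟩, hc'⟩ := hx
    exact ⟨a, s, c, hs, hc, by linear_combination -hc'⟩

/-- The closed points of a w-local spectrum map homeomorphically to the components. -/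
noncomputable def closedPointsHomeo {A : Type u} [CommRing A] (hA : ProEtW.IsWLocal (PrimeSpectrum A)) :
    ProEtW.closedPoints (PrimeSpectrum A) ≃ₜ ConnectedComponents (PrimeSpectrum A) :=
  haveI := hA.1
  haveI : CompactSpace (ProEtW.closedPoints (PrimeSpectrum A)) := isCompact_iff_compactSpace.1 hA.2.1.isCompact
  Continuous.homeoOfEquivCompactToT2
    (f := Equiv.ofBijective (fun x : ProEtW.closedPoints (PrimeSpectrum A) => ConnectedComponents.mk x.1)
      ⟨fun x y h => Subtype.ext (eq_of_mk_eq hA x.2 y.2 h), fun c => by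
        obtain ⟨p, rfl⟩ := ConnectedComponents.surjective_coe c
        obtain ⟨m, ⟨hm, hpm⟩, -⟩ := hA.2.2 p
        exact ⟨⟨m, hm⟩, mk_eq_of_specializes hpm⟩⟩)
    (ConnectedComponents.continuous_coe.comp continuous_subtype_val)

/-- The retraction lemma. -/
theorem exists_retraction {A B : Type u} [CommRing A] [CommRing B] [Algebra A B]
    (hA : ProEtW.IsWLocal (PrimeSpectrum A)) (hE : ExtremallyDisconnected (ConnectedComponents (PrimeSpectrum A)))
    (hmax : ∀ q : PrimeSpectrum B, (comap (algebraMap A B) q).asIdeal.IsMaximal → q.asIdeal.IsMaximal)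
    (hsurj : ∀ m : PrimeSpectrum A, m.asIdeal.IsMaximal → ∃ q, comap (algebraMap A B) q = m)
    (hloc : ∀ (n : Ideal B) [n.IsMaximal], (n.comap (algebraMap A B)).IsMaximal → Function.Bijective
      (Localization.localRingHom (n.comap (algebraMap A B)) n (algebraMap A B) rfl)) :
    Nonempty (B →ₐ[A] A) := by
  haveI := hA.1
  obtain ⟨J₀, hJ₀⟩ := (isClosed_iff_zeroLocus_ideal _).1 hA.2.1
  let J := J₀.map (algebraMap A B)
  have hJ : ∀ q : PrimeSpectrum B, J ≤ q.asIdeal ↔
      comap (algebraMap A B) q ∈ ProEtW.closedPoints (PrimeSpectrum A) := fun q =>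
    Ideal.map_le_iff_le_comap.trans (Set.ext_iff.1 hJ₀ (comap (algebraMap A B) q)).symm
  let f := Ideal.Quotient.mk J
  have hf : IsClosedEmbedding (comap f) :=
    isClosedEmbedding_comap_of_surjective _ f Ideal.Quotient.mk_surjective
  have hrange : ∀ q : PrimeSpectrum B, q ∈ Set.range (comap f) ↔ J ≤ q.asIdeal := fun q => by
    rw [range_comap_of_surjective _ _ Ideal.Quotient.mk_surjective, Ideal.mk_ker]
    exact Iff.rfl
  have hmax' : ∀ p : PrimeSpectrum (B ⧸ J), p.asIdeal.IsMaximal :=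
    quotient_isMaximal fun q hq => hmax q (mem_closedPoints.1 ((hJ q).1 hq))
  haveI := totallySeparatedSpace hmax'
  haveI : CompactSpace (ProEtW.closedPoints (PrimeSpectrum A)) := isCompact_iff_compactSpace.1 hA.2.1.isCompact
  haveI : T2Space (ProEtW.closedPoints (PrimeSpectrum A)) := (closedPointsHomeo hA).symm.t2Space
  haveI : ExtremallyDisconnected (ProEtW.closedPoints (PrimeSpectrum A)) :=
    extremallyDisconnected_of_homeo (closedPointsHomeo hA).symm
  let g : PrimeSpectrum (B ⧸ J) → ProEtW.closedPoints (PrimeSpectrum A) := fun p =>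
    ⟨comap (algebraMap A B) (comap f p), (hJ _).1 ((hrange _).1 ⟨p, rfl⟩)⟩
  have hg : Continuous g := ((continuous_comap _).comp (continuous_comap f)).subtype_mk _
  have hgs : Function.Surjective g := fun ⟨m, hm⟩ => by
    obtain ⟨q, rfl⟩ := hsurj m (mem_closedPoints.1 hm)
    obtain ⟨p, rfl⟩ := (hrange q).2 ((hJ q).2 hm)
    exact ⟨p, rfl⟩
  obtain ⟨σ, hσ, hσg⟩ := (CompactT2.ExtremallyDisconnected.projective
    (A := ProEtW.closedPoints (PrimeSpectrum A))) continuous_id hg hgs
  let T : Set (PrimeSpectrum B) := comap f '' Set.range σ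
  have hT : IsClosed T := hf.isClosedMap _ (isCompact_range hσ).isClosed
  have hTmax : ∀ n ∈ T, n.asIdeal.IsMaximal ∧
      comap (algebraMap A B) n ∈ ProEtW.closedPoints (PrimeSpectrum A) := by
    rintro _ ⟨p, -, rfl⟩
    have := (hJ _).1 ((hrange _).1 ⟨p, rfl⟩)
    exact ⟨hmax _ (mem_closedPoints.1 this), this⟩
  have hTinj : ∀ n ∈ T, ∀ n' ∈ T, comap (algebraMap A B) n = comap (algebraMap A B) n' → n = n' := by
    rintro _ ⟨_, ⟨x, rfl⟩, rfl⟩ _ ⟨_, ⟨y, rfl⟩, rfl⟩ h
    have hxy : g (σ x) = g (σ y) := Subtype.ext h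
    have hx : g (σ x) = x := congrFun hσg x
    have hy : g (σ y) = y := congrFun hσg y
    rw [hx, hy] at hxy
    rw [hxy]
  obtain ⟨K, hK⟩ := (isClosed_iff_zeroLocus_ideal _).1 hT
  let S : Submonoid B :=
    { carrier := {b | ∀ n ∈ T, b ∉ n.asIdeal}
      one_mem' := fun n _ h => n.isPrime.ne_top ((Ideal.eq_top_iff_one _).2 h)
      mul_mem' := fun ha hb n hn h => (n.isPrime.mem_or_mem h).elim (ha n hn) (hb n hn) }
  have hS : ∀ q : Ideal B, q.IsPrime → Disjoint (q : Set B) (S : Set B) → ∃ n ∈ T, q ≤ n.asIdeal := by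
    intro q hq hd
    have hne : q ⊔ K ≠ ⊤ := fun htop => by
      obtain ⟨x, hx, k, hk, hxk⟩ := Submodule.mem_sup.1 (htop ▸ (Submodule.mem_top : (1 : B) ∈ ⊤))
      refine Set.disjoint_left.1 hd hx fun n hn hxn => n.isPrime.ne_top ((Ideal.eq_top_iff_one _).2 ?_)
      rw [← hxk]
      exact n.asIdeal.add_mem hxn ((Set.ext_iff.1 hK n).1 hn hk)
    obtain ⟨M, hM, hle⟩ := Ideal.exists_le_maximal _ hne
    exact ⟨⟨M, hM.isPrime⟩, (Set.ext_iff.1 hK _).2 (le_sup_right.trans hle), le_sup_left.trans hle⟩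
  let B' := Localization S
  have hdisj : ∀ Q : Ideal B', Q.IsPrime → Disjoint ((Q.comap (algebraMap B B') : Ideal B) : Set B) (S : Set B) :=
    fun Q hQ => Set.disjoint_left.2 fun b hb hbS =>
      hQ.ne_top (Ideal.eq_top_of_isUnit_mem _ hb (IsLocalization.map_units B' ⟨b, hbS⟩))
  have hcomap : ∀ Q : Ideal B', Q.comap (algebraMap A B') = (Q.comap (algebraMap B B')).comap (algebraMap A B) :=
    fun Q => by rw [Ideal.comap_comap, ← IsScalarTower.algebraMap_eq]
  have hTm : ∀ n ∈ T, Disjoint ((n.asIdeal : Ideal B) : Set B) (S : Set B) := fun n hn =>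
    Set.disjoint_left.2 fun b hb hbS => hbS n hn hb
  have hmaxB : ∀ n ∈ T, ∃ N : Ideal B', N.IsMaximal ∧ N.comap (algebraMap B B') = n.asIdeal := by
    intro n hn
    haveI hp : (n.asIdeal.map (algebraMap B B')).IsPrime :=
      IsLocalization.isPrime_of_isPrime_disjoint S B' _ n.isPrime (hTm n hn).symm
    refine ⟨n.asIdeal.map (algebraMap B B'), ?_,
      IsLocalization.under_map_of_isPrime_disjoint S B' n.isPrime (hTm n hn).symm⟩
    obtain ⟨N, hN, hle⟩ := Ideal.exists_le_maximal _ hp.ne_top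
    have h1 : n.asIdeal ≤ N.comap (algebraMap B B') := Ideal.map_le_iff_le_comap.1 hle
    have h2 : n.asIdeal = N.comap (algebraMap B B') :=
      (hTmax n hn).1.eq_of_le (Ideal.IsPrime.comap _ (hK := hN.isPrime)).ne_top h1
    have h3 : N = n.asIdeal.map (algebraMap B B') := by
      rw [h2]; exact (IsLocalization.map_under S B' N).symm
    rwa [← h3]
  have hTof : ∀ N : Ideal B', N.IsMaximal →
      ∃ n ∈ T, N.comap (algebraMap B B') = n.asIdeal := by
    intro N hN
    obtain ⟨n, hn, hle⟩ := hS _ (Ideal.IsPrime.comap _ (hK := hN.isPrime)) (hdisj N hN.isPrime)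
    obtain ⟨N', hN', hN'c⟩ := hmaxB n hn
    have : N ≤ N' := by
      rw [← IsLocalization.map_under S B' N, ← IsLocalization.map_under S B' N']
      exact Ideal.map_mono (hle.trans hN'c.ge)
    exact ⟨n, hn, by rw [hN.eq_of_le hN'.ne_top this, hN'c]⟩
  have key : Function.Bijective (algebraMap A B') := by
    refine bijective_of_local (fun N hN => ?_) (fun m hm => ?_) fun N Q hN hQ hle => ?_
    · obtain ⟨n, hn, hNn⟩ := hTof N hN
      haveI := (hTmax n hn).1
      obtain ⟨hinj, hsur⟩ := local_elts (A := A) n.asIdeal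
        (hloc n.asIdeal (mem_closedPoints.1 (hTmax n hn).2))
      haveI := hN.isPrime
      have hmem : ∀ b : B, algebraMap B B' b ∈ N ↔ b ∈ n.asIdeal := fun b => by rw [← hNn]; rfl
      have hmemA : ∀ a : A, a ∈ N.comap (algebraMap A B') ↔ a ∈ n.asIdeal.comap (algebraMap A B) :=
        fun a => by rw [hcomap, hNn]
      refine IndEt.bijective_localRingHom N (fun a c hc hca => ?_) fun b => ?_
      · obtain ⟨x, t, rfl⟩ := IsLocalization.exists_mk'_eq S c
        have hx : x ∉ n.asIdeal := fun h => hc ((IsLocalization.mk'_mem_iff).2 ((hmem x).2 h))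
        rw [show algebraMap A B' a = IsLocalization.mk' B' (algebraMap A B a) (1 : S) by
          rw [IsLocalization.mk'_one, IsScalarTower.algebraMap_apply A B B'],
          ← IsLocalization.mk'_mul, IsLocalization.mk'_eq_zero_iff] at hca
        obtain ⟨⟨u, hu⟩, hu'⟩ := hca
        obtain ⟨s, hs, hsa⟩ := hinj a (u * x)
          (n.isPrime.mul_notMem (hu n hn) hx) (by linear_combination hu')
        exact ⟨s, fun h => hs ((hmemA s).1 h), hsa⟩
      · obtain ⟨x, ⟨t, ht⟩, rfl⟩ := IsLocalization.exists_mk'_eq S b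
        obtain ⟨a, s, c, hs, hc, he⟩ := hsur x
        obtain ⟨a', s', c', hs', hc', he'⟩ := hsur t
        have ha' : a' ∉ n.asIdeal.comap (algebraMap A B) := fun h => by
          have h1 : c' * (algebraMap A B s' * t - algebraMap A B a') ∈ n.asIdeal := he' ▸ n.asIdeal.zero_mem
          have h2 := n.asIdeal.add_mem ((n.isPrime.mem_or_mem h1).resolve_left hc')
            (show algebraMap A B a' ∈ n.asIdeal from h)
          rw [sub_add_cancel] at h2
          exact (n.isPrime.mem_or_mem h2).elim hs' (ht n hn)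
        refine ⟨s' * a, s * a', algebraMap B B' (c * c'), fun h => ?_,
          fun h => n.isPrime.mul_notMem hc hc' ((hmem _).1 h), ?_⟩
        · exact (Ideal.IsPrime.comap (algebraMap A B) (hK := n.isPrime)).mul_notMem hs ha' ((hmemA _).1 h)
        · refine (IsLocalization.map_units B' ⟨t, ht⟩).mul_right_cancel ?_
          rw [zero_mul, mul_assoc, sub_mul, mul_assoc, IsLocalization.mk'_spec,
            IsScalarTower.algebraMap_apply A B B', IsScalarTower.algebraMap_apply A B B',
            ← map_mul, ← map_mul, ← map_sub, ← map_mul, map_mul (algebraMap A B),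
            map_mul (algebraMap A B)]
          convert map_zero (algebraMap B B') using 2
          linear_combination (c' * algebraMap A B a') * he - (c * algebraMap A B a) * he'
    · obtain ⟨n, hn, hnm⟩ : ∃ n ∈ T, comap (algebraMap A B) n = ⟨m, hm.isPrime⟩ :=
        ⟨comap f (σ ⟨⟨m, hm.isPrime⟩, mem_closedPoints.2 hm⟩), ⟨_, ⟨_, rfl⟩, rfl⟩,
          congrArg Subtype.val (congrFun hσg ⟨⟨m, hm.isPrime⟩, mem_closedPoints.2 hm⟩)⟩
      obtain ⟨N, hN, hNc⟩ := hmaxB n hn
      exact ⟨N, hN, by rw [hcomap, hNc]; exact congrArg PrimeSpectrum.asIdeal hnm⟩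
    · obtain ⟨n, hn, hNn⟩ := hTof N hN
      obtain ⟨n', hn', hQn'⟩ := hS _ (Ideal.IsPrime.comap _ (hK := hQ)) (hdisj Q hQ)
      have hle' : (Q.comap (algebraMap B B')).comap (algebraMap A B) ≤ n.asIdeal.comap (algebraMap A B) := by
        rw [← hNn, ← hcomap, ← hcomap]; exact hle
      obtain ⟨c, -, huniq⟩ := hA.2.2 (comap (algebraMap A B) ⟨Q.comap (algebraMap B B'), Ideal.IsPrime.comap _⟩)
      have e1 := huniq (comap (algebraMap A B) n) ⟨(hTmax n hn).2, (le_iff_specializes _ _).1 hle'⟩
      have e2 := huniq (comap (algebraMap A B) n') ⟨(hTmax n' hn').2,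
        (le_iff_specializes _ _).1 (Ideal.comap_mono hQn')⟩
      have := hTinj n' hn' n hn (e2.trans e1.symm)
      subst this
      rw [← IsLocalization.map_under S B' Q, ← IsLocalization.map_under S B' N]
      exact Ideal.map_mono (hQn'.trans hNn.ge)
  exact ⟨(AlgEquiv.ofBijective (Algebra.ofId A B') key).symm.toAlgHom.comp (IsScalarTower.toAlgHom A B B')⟩

end GrothLib.WLocal
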