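import Groth.Agent.Lib.WLocal.Along
import Groth.Agent.Lib.IndEt.Comp
import Groth.Agent.Lib.Hensel.PairHull
import Groth.Agent.S0675
import Mathlib.FieldTheory.IsAlgClosed.AlgebraicClosure
import Mathlib.RingTheory.Jacobson.Ring

/-!
# Ind-étale covers with strictly henselian local rings
-/

set_option autoImplicit false

universe u

open TensorProduct CategoryTheory

namespace GrothLib.WLocal

variable (A : Type u) [CommRing A]

/-- The product of geometric points. -/
abbrev GeomPts : Type u := ∀ p : PrimeSpectrum A, AlgebraicClosure p.asIdeal.ResidueField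

/-- The hull of `A` along all geometric points. -/
abbrev GeomHull : Type u := Hensel.Hull A (GeomPts A)

theorem isIndEtale_geomHull : EtPBC.IsIndEtale A (GeomHull A) := Hensel.Hull.isIndEtale A _

theorem faithfullyFlat_geomHull : Module.FaithfullyFlat A (GeomHull A) := by
  haveI := IndEt.flat (isIndEtale_geomHull A)
  refine Module.FaithfullyFlat.of_comap_surjective fun p => ?_
  let f : GeomHull A →ₐ[A] AlgebraicClosure p.asIdeal.ResidueField :=
    (Pi.evalAlgHom A (fun p : PrimeSpectrum A => AlgebraicClosure p.asIdeal.ResidueField) p).comp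
      Hensel.Hull.proj
  refine ⟨⟨RingHom.ker f.toRingHom, RingHom.ker_isPrime _⟩, PrimeSpectrum.ext (Ideal.ext fun a => ?_)⟩
  show f (algebraMap A (GeomHull A) a) = 0 ↔ a ∈ p.asIdeal
  rw [AlgHom.commutes,
    IsScalarTower.algebraMap_apply A p.asIdeal.ResidueField (AlgebraicClosure p.asIdeal.ResidueField),
    map_eq_zero, Ideal.algebraMap_residueField_eq_zero]

theorem exists_point_of_faithfullyFlat {H D K : Type u} [CommRing H] [CommRing D] [Field K] [IsAlgClosed K]
    [Algebra H D] [Algebra H K] [Module.FaithfullyFlat H D] [Algebra.FiniteType H D] :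
    Nonempty (D →ₐ[H] K) := by
  haveI : Nontrivial (K ⊗[H] D) := inferInstance
  obtain ⟨M, hM⟩ := Ideal.exists_maximal (K ⊗[H] D)
  letI := Ideal.Quotient.field M
  haveI : Algebra.FiniteType K ((K ⊗[H] D) ⧸ M) :=
    Algebra.FiniteType.of_surjective (Ideal.Quotient.mkₐ K M) Ideal.Quotient.mk_surjective
  haveI : Module.Finite K ((K ⊗[H] D) ⧸ M) := finite_of_finite_type_of_isJacobsonRing K _
  haveI : Algebra.IsIntegral K ((K ⊗[H] D) ⧸ M) := Algebra.IsIntegral.of_finite K _
  have hb : Function.Bijective (algebraMap K ((K ⊗[H] D) ⧸ M)) :=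
    IsAlgClosed.algebraMap_bijective_of_isIntegral
  let e : K ≃ₐ[K] ((K ⊗[H] D) ⧸ M) := AlgEquiv.ofBijective (Algebra.ofId K _) hb
  exact ⟨((e.symm.toAlgHom.comp (Ideal.Quotient.mkₐ K M)).restrictScalars H).comp
    Algebra.TensorProduct.includeRight⟩

theorem exists_stage_of_fp {A C : Type u} [CommRing A] [CommRing C] [Algebra A C] {Z : Type u} [CommRing Z]
    [Algebra A Z] [Algebra.FinitePresentation A Z] (g : Z →ₐ[A] Hensel.Hull A C) :
    ∃ (N : Hensel.Nbhd A C) (a : Z →ₐ[A] N.Ring), (Hensel.Hull.ι N).comp a = g := by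
  classical
  obtain ⟨n, f, hf, s, hs⟩ := (inferInstance : Algebra.FinitePresentation A Z).out
  obtain ⟨N, x, hx⟩ := Hensel.Hull.exists_ι_family fun k : Fin n => g (f (MvPolynomial.X k))
  let g₀ : MvPolynomial (Fin n) A →ₐ[A] N.Ring := MvPolynomial.aeval x
  have hg : (Hensel.Hull.ι N).comp g₀ = g.comp f := MvPolynomial.algHom_ext fun k => by simp [g₀, hx]
  have key : ∀ t : Finset (MvPolynomial (Fin n) A), (∀ r ∈ t, f r = 0) →
      ∃ (M : Hensel.Nbhd A C) (φ : N ⟶ M), ∀ r ∈ t, φ.map (g₀ r) = 0 := by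
    intro t
    induction t using Finset.induction_on with
    | empty => exact fun _ => ⟨N, 𝟙 N, by simp⟩
    | insert r t hr ih =>
      intro h
      obtain ⟨M, φ, hM⟩ := ih fun q hq => h q (Finset.mem_insert_of_mem hq)
      have h0 : Hensel.Hull.ι M (φ.map (g₀ r)) = 0 := by
        rw [Hensel.Hull.ι_map, ← AlgHom.comp_apply, hg, AlgHom.comp_apply,
          h r (Finset.mem_insert_self r t), map_zero]
      obtain ⟨M', χ, hχ⟩ := Hensel.Hull.exists_map_eq_zero h0
      refine ⟨M', φ ≫ χ, fun q hq => ?_⟩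
      show χ.map (φ.map (g₀ q)) = 0
      rcases Finset.mem_insert.1 hq with rfl | hq
      · exact hχ
      · rw [hM q hq, map_zero]
  obtain ⟨M, φ, hM⟩ := key s fun r hr =>
    RingHom.mem_ker.1 (hs ▸ Ideal.subset_span (Finset.mem_coe.2 hr) : r ∈ RingHom.ker f.toRingHom)
  have hker : RingHom.ker f.toRingHom ≤ RingHom.ker (φ.map.comp g₀).toRingHom := by
    rw [← hs]
    exact Ideal.span_le.2 fun r hr => hM r (Finset.mem_coe.1 hr)
  refine ⟨M, AlgHom.liftOfSurjective f hf (φ.map.comp g₀) hker, ?_⟩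
  refine (AlgHom.cancel_right hf).1 (AlgHom.ext fun p => ?_)
  simp only [AlgHom.comp_apply, AlgHom.liftOfSurjective_apply, Hensel.Hull.ι_map]
  exact AlgHom.congr_fun hg p

attribute [local instance] Algebra.TensorProduct.rightAlgebra in
theorem hasEtaleRetractions_geomHull : ProEtW.HasEtaleRetractions (GeomHull A) := by
  intro D _ _ hff het
  haveI := hff
  haveI := het
  obtain ⟨A₀, B₀, _, _, hfg, het₀, ⟨e⟩⟩ := Algebra.Etale.exists_subalgebra_fg ℤ (GeomHull A) D
  haveI := het₀
  haveI : Algebra.FiniteType ℤ A₀ := (Subalgebra.fg_iff_finiteType A₀).1 hfg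
  haveI : Algebra.FinitePresentation ℤ A₀ := Algebra.FinitePresentation.of_finiteType.1 inferInstance
  let g : A ⊗[ℤ] A₀ →ₐ[A] GeomHull A :=
    Algebra.TensorProduct.lift (Algebra.ofId A _) A₀.val fun _ _ => Commute.all _ _
  obtain ⟨N, a, hab⟩ := exists_stage_of_fp g
  let aV : A₀ →+* N.Ring := a.toRingHom.comp Algebra.TensorProduct.includeRight.toRingHom
  letI : Algebra A₀ N.Ring := aV.toAlgebra
  haveI : Algebra.Etale A N.Ring := N.etale
  have hbA : ∀ x : A₀, Hensel.Hull.ι N (algebraMap A₀ N.Ring x) = (x : GeomHull A) := fun x => by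
    show Hensel.Hull.ι N (a ((1 : A) ⊗ₜ[ℤ] x)) = _
    rw [← AlgHom.comp_apply, hab]
    simp [g]
  let V := N.Ring
  let b : V →ₐ[A] GeomHull A := Hensel.Hull.ι N
  let V' := V ⊗[A₀] B₀
  haveI : Algebra.Etale A V' := Algebra.Etale.comp A V V'
  -- geometric points of `D`
  have hpt : ∀ p : PrimeSpectrum A, ∃ φ : D →+* AlgebraicClosure p.asIdeal.ResidueField,
      ∀ h : GeomHull A, φ (algebraMap (GeomHull A) D h) = Hensel.Hull.proj h p := fun p => by
    let f : GeomHull A →+* AlgebraicClosure p.asIdeal.ResidueField :=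
      (Pi.evalRingHom (fun p : PrimeSpectrum A => AlgebraicClosure p.asIdeal.ResidueField) p).comp
        Hensel.Hull.proj.toRingHom
    letI := f.toAlgebra
    obtain ⟨φ⟩ := exists_point_of_faithfullyFlat (H := GeomHull A) (D := D)
      (K := AlgebraicClosure p.asIdeal.ResidueField)
    exact ⟨φ.toRingHom, φ.commutes⟩
  choose φ hφ using hpt
  let φP : D →+* GeomPts A := Pi.ringHom φ
  have hφP : ∀ h : GeomHull A, φP (algebraMap (GeomHull A) D h) = Hensel.Hull.proj h := fun h =>
    funext fun p => hφ p h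
  -- the point of `V'`
  let j : B₀ →+* D := e.symm.toRingHom.comp Algebra.TensorProduct.includeRight.toRingHom
  have hj : ∀ x : A₀, j (algebraMap A₀ B₀ x) = algebraMap (GeomHull A) D x := fun x => by
    show e.symm ((1 : GeomHull A) ⊗ₜ[A₀] algebraMap A₀ B₀ x) = _
    rw [← e.symm.commutes (x : GeomHull A)]
    congr 1
    rw [Algebra.TensorProduct.algebraMap_apply, Algebra.algebraMap_eq_smul_one, TensorProduct.tmul_smul,
      TensorProduct.smul_tmul']
    congr 1
    show x • (1 : GeomHull A) = _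
    rw [Subalgebra.smul_def]
    simp
  letI : Algebra A₀ (GeomPts A) := ((Hensel.Hull.proj (A := A) (C := GeomPts A)).toRingHom.comp A₀.val.toRingHom).toAlgebra
  let jP : B₀ →ₐ[A₀] GeomPts A :=
    { φP.comp j with
      commutes' := fun x => by
        show φP (j (algebraMap A₀ B₀ x)) = _
        rw [hj, hφP]
        rfl }
  let bP : V →ₐ[A₀] GeomPts A :=
    { (Hensel.Hull.proj.comp b).toRingHom with
      commutes' := fun x => by
        show Hensel.Hull.proj (b (algebraMap A₀ V x)) = _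
        rw [hbA]
        rfl }
  let ψ₀ : V' →ₐ[A₀] GeomPts A := Algebra.TensorProduct.lift bP jP fun _ _ => Commute.all _ _
  let ψ : V' →ₐ[A] GeomPts A :=
    { ψ₀.toRingHom with
      commutes' := fun r => by
        show ψ₀ ((algebraMap A V r) ⊗ₜ[A₀] (1 : B₀)) = _
        rw [Algebra.TensorProduct.lift_tmul, map_one, mul_one]
        show Hensel.Hull.proj (b (algebraMap A V r)) = _
        rw [AlgHom.commutes, AlgHom.commutes] }
  have hofb : ∀ v : V, Hensel.Hull.of (A' := V') ψ (v ⊗ₜ[A₀] (1 : B₀)) = b v := by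
    intro v
    refine AlgHom.congr_fun (Hensel.Hull.of_comp (A' := V') ψ (IsScalarTower.toAlgHom A V V') (AlgHom.ext fun w => ?_)) v
    show ψ₀ (w ⊗ₜ[A₀] (1 : B₀)) = N.pt w
    rw [Algebra.TensorProduct.lift_tmul, map_one, mul_one]
    exact Hensel.Hull.proj_ι N w
  let r₀ : B₀ →ₐ[A₀] GeomHull A :=
    { (Hensel.Hull.of (A' := V') ψ).toRingHom.comp (Algebra.TensorProduct.includeRight (R := A₀) (A := V) (B := B₀)).toRingHom with
      commutes' := fun x => by
        show Hensel.Hull.of (A' := V') ψ ((1 : V) ⊗ₜ[A₀] algebraMap A₀ B₀ x) = (x : GeomHull A)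
        rw [Algebra.algebraMap_eq_smul_one, TensorProduct.tmul_smul, TensorProduct.smul_tmul',
          ← Algebra.algebraMap_eq_smul_one, hofb]
        exact hbA x }
  let r : GeomHull A ⊗[A₀] B₀ →ₐ[GeomHull A] GeomHull A :=
    Algebra.TensorProduct.lift (AlgHom.id (GeomHull A) (GeomHull A)) r₀ fun _ _ => Commute.all _ _
  exact ⟨r.comp e.toAlgHom⟩

end GrothLib.WLocal
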